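import Groth.Agent.Cons51.TorsionCoh
import Groth.Agent.GalCoh84.Cohom
import Groth.Agent.GalCoh84.Torsion
import Groth.Agent.Unr55.Et.FinitePushExact
import Groth.Agent.EtCore45.ExtAdjoint
import Groth.Prelude.Def_EtLim
import Mathlib.AlgebraicGeometry.Morphisms.QuasiFinite
import Groth.Agent.FlatMor66.OnePoint

/-! Cohomology and direct images of sheaves on the spectrum of a field are torsion in positive degrees. -/

set_option autoImplicit false
set_option linter.style.haveILetI false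
set_option backward.isDefEq.respectTransparency.types false
universe u

open CategoryTheory CategoryTheory.Limits CategoryTheory.Abelian AlgebraicGeometry Opposite
open Groth.Agent.Unr55.EtSh

namespace Groth.Agent.Dix2

variable {K : Type u} [Field K]

theorem isFinite_of_etale {W : Scheme.{u}} (a : W ⟶ Spec (CommRingCat.of K)) [Etale a] [CompactSpace W] :
    IsFinite a := by
  haveI : QuasiCompact a := inferInstance
  haveI : LocallyQuasiFinite a := FlatMor66.lqf_of_etale a
  haveI : IsArtinianScheme (Spec (CommRingCat.of K)) := inferInstance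
  exact IsFinite.of_locallyQuasiFinite a

theorem torsionH_field (F : EtCoh.Ab (Spec (CommRingCat.of K))) : Cons51.TorsionH F := by
  intro W h1 _ q hq α
  haveI := W.prop
  haveI : CompactSpace ↥((𝟭 Scheme).obj W.left) := h1
  haveI : IsFinite W.hom := isFinite_of_etale W.hom
  haveI := preservesFiniteLimits_pull W.hom
  have hb : Function.Bijective (EtLim.HofPush W.hom ((EtCoh.pull W.hom).obj F) q) :=
    EtCore45.adjTransfer_bijective (EtCoh.pullPushAdj W.hom) (EtCore.pullConst W.hom ℤ).inv q _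
      fun p hp => isZero_Rpush_of_finite W.hom _ p hp
  obtain ⟨β, rfl⟩ := hb.2 α
  exact (EtLim.HofPush W.hom ((EtCoh.pull W.hom).obj F) q).isOfFinAddOrder (GalCoh84.isOfFinAddOrder_H hq β)

variable {X : Scheme.{u}} (f : Spec (CommRingCat.of K) ⟶ X) [QuasiCompact f] [QuasiSeparated f]

theorem isTorsion_Rpush_field (F : EtCoh.Ab (Spec (CommRingCat.of K))) (q : ℕ) (hq : 1 ≤ q) :
    EtCoh.IsTorsion ((EtCoh.Rpush f q).obj F) := by
  obtain ⟨n, rfl⟩ := Nat.exists_eq_add_one.2 hq
  exact Cons51.isTorsion_Rpush_succ f n F (torsionH_field F)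

theorem isTorsion_cokernel_push (F : EtCoh.Ab (Spec (CommRingCat.of K))) :
    EtCoh.IsTorsion (cokernel ((EtCoh.push f).map (EtCore45.injSeq F).g)) := by
  refine (Cons51.isTorsion_iff_stalks _).2 fun L _ _ η b => ?_
  obtain ⟨a, rfl⟩ := (AddCommGrpCat.epi_iff_surjective
    ((EtCoh.stalk η).map (cokernel.π ((EtCoh.push f).map (EtCore45.injSeq F).g)))).1 inferInstance b
  obtain ⟨V, hV, t, σ, rfl⟩ := Cons51.exists_germ_affine η _ a
  obtain ⟨h1, h2⟩ := Cons51.bc_qcqs f V
  obtain ⟨N, hN, τ, hτ⟩ := Cons51.exists_nsmul_lift (torsionH_field F) ((EtCoh.bc f).obj V) h1 h2 σ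
  refine isOfFinAddOrder_iff_nsmul_eq_zero.2 ⟨N, hN, ?_⟩
  have hτ' : ((EtCoh.push f).map (EtCore45.injSeq F).g).hom.app (op V) τ =
      (N • σ : EtCoh.sect ((EtCoh.push f).obj (EtCore45.injSeq F).X₃) V) := hτ
  rw [← map_nsmul, ← map_nsmul, ← hτ', ← stalk_map_germ, ← ConcreteCategory.comp_apply, ← Functor.map_comp,
    cokernel.condition, Functor.map_zero]
  rfl

theorem isAddTorsion_H_push [CompactSpace X] [QuasiSeparatedSpace X] :
    ∀ (n : ℕ) (F : EtCoh.Ab (Spec (CommRingCat.of K))),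
      IsAddTorsion (EtCoh.H X ((EtCoh.push f).obj F) (n + 1)) := by
  haveI : PreservesLimitsOfSize.{0, 0} (EtCoh.push f) := (EtCoh.pullPushAdj f).rightAdjoint_preservesLimits
  haveI : PreservesFiniteLimits (EtCoh.push f) := PreservesLimitsOfSize.preservesFiniteLimits _
  haveI := preservesFiniteLimits_pull f
  intro n
  induction n using Nat.strong_induction_on with
  | _ n ih =>
  intro F x
  let S := EtCore45.injSeq F
  have hS : S.ShortExact := EtCore45.injSeq_shortExact F
  haveI : Injective S.X₂ := inferInstanceAs (Injective (Injective.under F))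
  haveI : Injective ((EtCoh.push f).obj S.X₂) := Injective.injective_of_adjoint (EtCoh.pullPushAdj f) _
  haveI := hS.mono_f
  obtain ⟨hex, -⟩ := (Functor.preservesFiniteLimits_iff_forall_exact_map_and_mono (EtCoh.push f)).1 inferInstance S hS
  let S1 := ShortComplex.mk ((EtCoh.push f).map S.f) (cokernel.π _) (cokernel.condition _)
  have hS1 : S1.ShortExact := { exact := ShortComplex.exact_of_g_is_cokernel S1 (cokernelIsCokernel _) }
  let c : S1.X₃ ⟶ (EtCoh.push f).obj S.X₃ := cokernel.desc _ ((EtCoh.push f).map S.g) (by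
    rw [← Functor.map_comp, S.zero, Functor.map_zero])
  haveI : Mono c := (ShortComplex.exact_iff_mono_cokernel_desc (S.map (EtCoh.push f))).1 hex
  have hsurj : ∃ y : EtCoh.H X S1.X₃ n, hS1.extClass.postcomp _ (rfl : n + 1 = n + 1) y = x := by
    obtain ⟨y, hy⟩ := Ext.covariant_sequence_exact₁ _ hS1 x
      (Ext.eq_zero_of_injective _) (rfl : n + 1 = n + 1)
    exact ⟨y, hy⟩
  obtain ⟨y, rfl⟩ := hsurj
  cases n with
  | succ m =>
    obtain ⟨N, hN, h0⟩ := isOfFinAddOrder_iff_nsmul_eq_zero.1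
      (ih m (by omega) S.X₃ ((Ext.mk₀ c).postcomp _ (add_zero _) y))
    rw [← map_nsmul] at h0
    let S2 := ShortComplex.mk c (cokernel.π c) (cokernel.condition c)
    have hS2 : S2.ShortExact := { exact := ShortComplex.exact_of_g_is_cokernel S2 (cokernelIsCokernel _) }
    obtain ⟨z, hz⟩ := Ext.covariant_sequence_exact₁ _ hS2 (N • y) h0 (rfl : m + 1 = m + 1)
    have hc : (EtCoh.push f).map S.g = cokernel.π ((EtCoh.push f).map S.f) ≫ c := (cokernel.π_desc _ _ _).symm
    have htor : EtCoh.IsTorsion S2.X₃ :=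
      GalCoh84.isTorsion_of_iso ((cokernelEpiComp (cokernel.π ((EtCoh.push f).map S.f)) c).symm.trans
        (cokernelIsoOfEq hc.symm)).symm (isTorsion_cokernel_push f F)
    obtain ⟨M, hM, hM0⟩ := isOfFinAddOrder_iff_nsmul_eq_zero.1 (Cons51.isAddTorsion_H htor m z)
    refine AddMonoidHom.isOfFinAddOrder _ (isOfFinAddOrder_iff_nsmul_eq_zero.2 ⟨N * M, Nat.mul_pos hN hM, ?_⟩)
    rw [mul_nsmul]
    show M • N • y = 0
    rw [← hz]
    exact ((map_nsmul (hS2.extClass.postcomp _ rfl) M z).symm).trans ((congrArg _ hM0).trans (map_zero _))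
  | zero =>
    obtain ⟨φ, rfl⟩ := Ext.addEquiv₀.symm.surjective y
    let φ' : EtCoh.const (Spec (CommRingCat.of K)) ℤ ⟶ S.X₃ :=
      (EtCore.pullConst f ℤ).inv ≫ ((EtCoh.pullPushAdj f).homEquiv _ _).symm (φ ≫ c)
    let α : EtCoh.H (Spec (CommRingCat.of K)) F 1 :=
      hS.extClass.postcomp _ (zero_add 1) (Ext.addEquiv₀.symm φ')
    obtain ⟨N, hN, h0⟩ := isOfFinAddOrder_iff_nsmul_eq_zero.1 (GalCoh84.isOfFinAddOrder_H zero_lt_one α)
    rw [← map_nsmul] at h0
    obtain ⟨z, hz⟩ := Ext.covariant_sequence_exact₃ _ hS (N • Ext.addEquiv₀.symm φ') (zero_add 1) h0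
    obtain ⟨ψ, rfl⟩ := Ext.addEquiv₀.symm.surjective z
    rw [← map_nsmul] at hz
    have hψ : ψ ≫ S.g = N • φ' := (Ext.mk₀_bijective _ _).1 ((Ext.mk₀_comp_mk₀ ψ _).symm.trans hz)
    let ψ' := (EtCoh.pullPushAdj f).homEquiv _ _ ((EtCore.pullConst f ℤ).hom ≫ ψ)
    have h1 : ψ' ≫ (EtCoh.push f).map S.g = N • (φ ≫ c) := by
      rw [← Adjunction.homEquiv_naturality_right, Category.assoc, hψ]
      simp only [φ', Preadditive.comp_nsmul, Iso.hom_inv_id_assoc]
      rw [Adjunction.homEquiv_unit, Functor.map_nsmul, Preadditive.comp_nsmul, ← Adjunction.homEquiv_unit,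
        Equiv.apply_symm_apply]
    have h2 : ψ' ≫ cokernel.π ((EtCoh.push f).map S.f) = N • φ := by
      rw [← cancel_mono c, Category.assoc, Preadditive.nsmul_comp]
      simp only [c, cokernel.π_desc]
      exact h1
    refine isOfFinAddOrder_iff_nsmul_eq_zero.2 ⟨N, hN, ?_⟩
    rw [← map_nsmul, ← map_nsmul, ← h2]
    show (Ext.mk₀ (ψ' ≫ S1.g)).comp hS1.extClass rfl = 0
    rw [← Ext.mk₀_comp_mk₀, Ext.comp_assoc _ _ _ (add_zero 0) (zero_add 1) (by omega), hS1.comp_extClass,
      Ext.comp_zero]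

end Groth.Agent.Dix2
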