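import Groth.Agent.Cons51.ClosedPoints
import Groth.Agent.Dix2.SkyTorsion
import Mathlib.GroupTheory.Torsion

/-! Cohomology of sheaves supported on closed points of a noetherian scheme. -/

set_option autoImplicit false
set_option linter.style.haveILetI false
set_option backward.isDefEq.respectTransparency.types false
universe u

open CategoryTheory CategoryTheory.Limits CategoryTheory.Abelian AlgebraicGeometry Topology TopologicalSpace Opposite
open Groth.Agent.Unr55.EtSh Groth.Agent.EtCore45 Groth.Agent.Cons51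

namespace Groth.Agent.Dix2

variable {X : Scheme.{u}}

/-- The cohomology of the part at a closed point injects into that of the residue field. -/
theorem exists_injective_sub1 (F : EtCoh.Ab X) {x : X} (hx : IsClosed ({x} : Set X)) (q : ℕ) :
    ∃ (G : EtCoh.Ab (Spec (CommRingCat.of (X.residueField x))))
      (φ : EtCoh.H X (sub1 F hx) q →+ EtCoh.H (Spec (CommRingCat.of (X.residueField x))) G q),
      Function.Injective φ := by
  let i : Spec (CommRingCat.of (X.residueField x)) ⟶ X := X.fromSpecResidueField x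
  haveI : IsClosedImmersion i := (isClosed_singleton_iff_isClosedImmersion (x := x)).1 hx
  let j := (comp1 hx).ι
  let A := sub1 F hx
  have hZU : Set.range j = (Set.range i)ᶜ := by
    rw [Scheme.range_fromSpecResidueField, Scheme.Opens.range_ι]; rfl
  have := isIso_pull_unit_closed i A
  have : IsIso ((EtCoh.pull j).map ((EtCoh.pullPushAdj i).unit.app A)) :=
    isIso_of_source_target_iso_zero _ (isZero_pull_sub1 F hx).isoZero
      (isZero_pull_push i j hZU _).isoZero
  have := isIso_of_pulls i j hZU ((EtCoh.pullPushAdj i).unit.app A)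
  have := preservesFiniteLimits_pull i
  have hb := adjTransfer_bijective.{u + 1} (EtCoh.pullPushAdj i) (EtCore.pullConst i ℤ).inv q
    ((EtCoh.pull i).obj A) (fun p hp => isZero_Rpush_of_finite i _ p hp)
  let e := ((EtCoh.HF X q).mapIso (asIso ((EtCoh.pullPushAdj i).unit.app A))).addCommGroupIsoToAddEquiv
  exact ⟨(EtCoh.pull i).obj A, (adjTransfer (EtCoh.pullPushAdj i) (EtCore.pullConst i ℤ).inv _ q).comp e.toAddMonoidHom,
    hb.1.comp e.injective⟩

theorem isAddTorsion_H_sub1 (F : EtCoh.Ab X) {x : X} (hx : IsClosed ({x} : Set X)) (q : ℕ) (hq : 1 ≤ q) :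
    IsAddTorsion (EtCoh.H X (sub1 F hx) q) := fun z => by
  obtain ⟨G, φ, hφ⟩ := exists_injective_sub1 F hx q
  obtain ⟨N, hN, h0⟩ := isOfFinAddOrder_iff_nsmul_eq_zero.1 (GalCoh84.isOfFinAddOrder_H hq (φ z))
  exact isOfFinAddOrder_iff_nsmul_eq_zero.2 ⟨N, hN, hφ ((map_nsmul φ N z).trans (h0.trans (map_zero φ).symm))⟩

theorem subsingleton_H_sub1 (F : EtCoh.Ab X) {x : X} (hx : IsClosed ({x} : Set X))
    (hs : IsSepClosed (X.residueField x)) (q : ℕ) (hq : 1 ≤ q) : Subsingleton (EtCoh.H X (sub1 F hx) q) := by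
  obtain ⟨G, φ, hφ⟩ := exists_injective_sub1 F hx q
  let S := Spec (CommRingCat.of (X.residueField x))
  have hcl : ∀ s : S, IsClosed ({s} : Set S) := fun s => by
    rw [Set.eq_univ_of_forall fun t => Set.mem_singleton_iff.2 (Subsingleton.elim t s)]
    exact isClosed_univ
  have := Unr55.EtSh.H_subsingleton_zeroDim S hcl
    (fun s => isSepClosed_residueField_closed (K := X.residueField x) (𝟙 S) (hcl s)) G q hq
  exact hφ.subsingleton

/-- A map out of the cohomology of a sheaf supported on closed points vanishing on each point part is zero. -/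
theorem hom_ext_H_supp [IsNoetherian X] (F : EtCoh.Ab X)
    (hF : ∀ x ∈ EtPBC.supp F, IsClosed ({x} : Set X)) (q : ℕ) {Q : AddCommGrpCat.{u + 1}}
    (ψ : (EtCoh.HF X q).obj F ⟶ Q)
    (h : ∀ x (hx : IsClosed ({x} : Set X)),
      (EtCoh.HF X q).map (kernel.ι ((EtCoh.pullPushAdj (comp1 hx).ι).unit.app F)) ≫ ψ = 0) : ψ = 0 := by
  let α : Type (u + 1) := ULift.{u + 1} (EtPBC.supp F)
  let hc : ∀ x : α, IsClosed ({x.down.1} : Set X) := fun x => hF x.down.1 x.down.2
  let A : α → EtCoh.Ab X := fun x => sub1 F (hc x)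
  let p : ∐ A ⟶ F := Sigma.desc fun x => kernel.ι ((EtCoh.pullPushAdj (comp1 (hc x)).ι).unit.app F)
  have : IsIso p := by
    refine isIso_of_stalks p fun Ω _ _ η => ?_
    have : PreservesColimitsOfSize.{u + 1, u + 1} (EtCoh.stalk η) :=
      (Scheme.pointSmallEtale η).skyscraperSheafAdjunction.leftAdjoint_preservesColimits
    let hcs := isColimitOfPreserves (EtCoh.stalk η) (coproductIsCoproduct A)
    by_cases hx0 : η default ∈ EtPBC.supp F
    · let x0 : α := ⟨⟨η default, hx0⟩⟩
      have hepi : Epi ((EtCoh.stalk η).map (Sigma.ι A x0)) := ⟨fun g h hgh => hcs.hom_ext fun ⟨x⟩ => by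
        by_cases hxx : x = x0
        · subst hxx; exact hgh
        · exact (isZero_stalk_sub1 F (hc x) η (fun e => hxx (ULift.ext _ _ (Subtype.ext e.symm)))).eq_of_src _ _⟩
      have hsur := (AddCommGrpCat.epi_iff_surjective _).1 hepi
      have hcomp : ∀ w, (EtCoh.stalk η).map p ((EtCoh.stalk η).map (Sigma.ι A x0) w) =
          (EtCoh.stalk η).map (kernel.ι ((EtCoh.pullPushAdj (comp1 (hc x0)).ι).unit.app F)) w := fun w => by
        rw [← ConcreteCategory.comp_apply, ← Functor.map_comp, Sigma.ι_desc]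
      refine ⟨fun z z' hz => ?_, fun t => ?_⟩
      · obtain ⟨w, rfl⟩ := hsur z
        obtain ⟨w', rfl⟩ := hsur z'
        rw [hcomp, hcomp] at hz
        exact congrArg _ ((AddCommGrpCat.mono_iff_injective _).1 inferInstance hz)
      · obtain ⟨b, hb⟩ := exists_sub1_germ hF (hc x0) η rfl t
        exact ⟨_, (hcomp b).trans hb⟩
    · have hzF : IsZero ((EtCoh.stalk η).obj F) := by
        by_contra hne
        exact hx0 ⟨Ω, inferInstance, inferInstance, η, (range_eq_singleton η _).2 rfl, hne⟩
      have hzA : IsZero ((EtCoh.stalk η).obj (∐ A)) := (IsZero.iff_id_eq_zero _).2 (hcs.hom_ext fun ⟨x⟩ =>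
        (isZero_stalk_sub1 F (hc x) η (fun e => hx0 (e ▸ x.down.2))).eq_of_src _ _)
      have := AddCommGrpCat.subsingleton_of_isZero hzF
      have := AddCommGrpCat.subsingleton_of_isZero hzA
      exact ⟨fun z z' _ => Subsingleton.elim _ _, fun t => ⟨0, Subsingleton.elim _ _⟩⟩
  rw [← cancel_epi ((EtCoh.HF X q).map p), comp_zero]
  have := Unr55.HColim.preservesColimitsOfShape_HF (X := X) (Finset (Discrete α)) q
  let hcH := isColimitOfPreserves (EtCoh.HF X q) (CoproductsFromFiniteFiltered.isColimitFiniteSubproductsCocone A)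
  refine hcH.hom_ext fun S => ?_
  refine Eq.trans ?_ comp_zero.symm
  have := DCoh.additive_HF (X := X) q
  have : PreservesFiniteCoproducts (EtCoh.HF X q) := inferInstance
  have : PreservesColimitsOfShape (Discrete (Fin (Nat.card (S : Finset (Discrete α))))) (EtCoh.HF X q) :=
    PreservesFiniteCoproducts.preserves _
  have : PreservesColimitsOfShape (Discrete (S : Finset (Discrete α))) (EtCoh.HF X q) :=
    preservesColimitsOfShape_of_equiv (Discrete.equivalence (Finite.equivFin (S : Finset (Discrete α))).symm) _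
  let hS := isColimitOfPreserves (EtCoh.HF X q) (colimit.isColimit (Discrete.functor fun y : S => A y.1.as))
  refine hS.hom_ext fun ⟨y⟩ => ?_
  refine Eq.trans ?_ comp_zero.symm
  simp only [Functor.mapCocone_ι_app, colimit.cocone_ι]
  have e : (colimit.ι (Discrete.functor fun y : S => A y.1.as) ⟨y⟩ ≫
      (CoproductsFromFiniteFiltered.finiteSubcoproductsCocone A).ι.app S) ≫ p =
      kernel.ι ((EtCoh.pullPushAdj (comp1 (hc y.1.as)).ι).unit.app F) := by
    simp [p, CoproductsFromFiniteFiltered.finiteSubcoproductsCocone]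
  have e2 := congrArg (fun k => (EtCoh.HF X q).map k) e
  simp only [Functor.map_comp] at e2
  refine Eq.trans ?_ ((congrArg (· ≫ ψ) e2).trans (h y.1.as.down.1 (hc y.1.as)))
  simp only [Category.assoc]
  exact rfl

theorem isAddTorsion_of_hom {M : AddCommGrpCat.{u + 1}}
    (h : ∀ {Q : AddCommGrpCat.{u + 1}} (ψ : M ⟶ Q), (∀ m : M, IsOfFinAddOrder m → ψ m = 0) → ψ = 0) :
    IsAddTorsion M := fun z => by
  have h0 := h (AddCommGrpCat.ofHom (QuotientAddGroup.mk' (AddCommGroup.torsion M)))
    fun m hm => (QuotientAddGroup.eq_zero_iff m).2 hm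
  exact (QuotientAddGroup.eq_zero_iff (N := AddCommGroup.torsion M) z).1 (ConcreteCategory.congr_hom h0 z)

theorem isAddTorsion_H_supp [IsNoetherian X] (F : EtCoh.Ab X)
    (hF : ∀ x ∈ EtPBC.supp F, IsClosed ({x} : Set X)) (q : ℕ) (hq : 1 ≤ q) : IsAddTorsion (EtCoh.H X F q) :=
  isAddTorsion_of_hom (M := (EtCoh.HF X q).obj F) fun ψ hψ => hom_ext_H_supp F hF q ψ fun x hx =>
    ConcreteCategory.hom_ext _ _ fun w => hψ _
      (AddMonoidHom.isOfFinAddOrder ((EtCoh.HF X q).map _).hom (isAddTorsion_H_sub1 F hx q hq w))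

theorem subsingleton_H_supp [IsNoetherian X] (F : EtCoh.Ab X)
    (hF : ∀ x ∈ EtPBC.supp F, IsClosed ({x} : Set X))
    (hs : ∀ x : X, IsClosed ({x} : Set X) → IsSepClosed (X.residueField x)) (q : ℕ) (hq : 1 ≤ q) :
    Subsingleton (EtCoh.H X F q) := by
  have h0 := hom_ext_H_supp F hF q (𝟙 _) fun x hx => by
    haveI : Subsingleton ((EtCoh.HF X q).obj (sub1 F hx)) := subsingleton_H_sub1 F hx (hs x hx) q hq
    exact (AddCommGrpCat.isZero_of_subsingleton _).eq_of_src _ _
  exact AddCommGrpCat.subsingleton_of_isZero ((IsZero.iff_id_eq_zero _).2 h0)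

end Groth.Agent.Dix2
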