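import Groth.Agent.Dix2.GmSeq
import Groth.Agent.Unr55.EtStalk
import Groth.Agent.Ega11.PointDim
import Mathlib.RingTheory.Flat.TorsionFree
import Mathlib.AlgebraicGeometry.Morphisms.Flat

/-! Functions on étale schemes are determined at the maximal points. -/

set_option autoImplicit false
set_option linter.style.haveILetI false
set_option backward.isDefEq.respectTransparency.types false
universe u

open CategoryTheory CategoryTheory.Limits AlgebraicGeometry Opposite TopologicalSpace

namespace Groth.Agent.Dix2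

variable {X : Scheme.{u}}

/-- If a function has vanishing germ at a generisation then its germ is killed by an element outside that prime. -/
theorem exists_notMem_mul_germ_eq_zero {V : Scheme.{u}} (v : V) (s : Γ(V, ⊤))
    (c : Spec (V.presheaf.stalk v))
    (h : V.presheaf.germ ⊤ (V.fromSpecStalk v c) trivial s = 0) :
    ∃ f : V.presheaf.stalk v, f ∉ (c : PrimeSpectrum (V.presheaf.stalk v)).asIdeal ∧
      f * V.presheaf.germ ⊤ v trivial s = 0 := by
  let R := V.presheaf.stalk v
  have h1 : (Spec R).presheaf.germ ⊤ c trivial ((V.fromSpecStalk v).appTop s) = 0 := by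
    have := congrArg ((V.fromSpecStalk v).stalkMap c) h
    erw [Scheme.Hom.germ_stalkMap_apply, map_zero] at this
    exact this
  have h2 : StructureSheaf.toStalk R c (V.presheaf.germ ⊤ v trivial s) = 0 := by
    rw [← appTop_fromSpecStalk]
    refine Eq.trans ?_ h1
    show ((Spec R).presheaf.germ ⊤ c trivial) ((Scheme.ΓSpecIso R).inv _) = _
    rw [← ConcreteCategory.comp_apply (Scheme.ΓSpecIso R).hom, Iso.hom_inv_id]
    rfl
  let p : PrimeSpectrum R := c
  letI : Algebra R ((Spec R).presheaf.stalk c) := (StructureSheaf.toStalk R p).hom.toAlgebra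
  haveI : IsLocalization.AtPrime ((Spec R).presheaf.stalk c) p.asIdeal :=
    StructureSheaf.IsLocalization.to_stalk R p
  obtain ⟨⟨f, hf⟩, hf0⟩ := (IsLocalization.map_eq_zero_iff p.asIdeal.primeCompl _ _).1 h2
  exact ⟨f, hf, hf0⟩

/-- On a reduced scheme functions are determined at the maximal points. -/
theorem eq_zero_of_reduced [IsReduced X] (V : X.Etale) (s : Γ(V.left, ⊤))
    (h : ∀ v : V.left, IsMax (V.hom v) → V.left.presheaf.germ ⊤ v trivial s = 0) : s = 0 := by
  haveI : Etale V.hom := V.prop
  refine TopCat.Presheaf.section_ext V.left.sheaf ⊤ s 0 fun v hv => ?_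
  rw [map_zero]
  let R := V.left.presheaf.stalk v
  have key : ∀ P ∈ minimalPrimes R, V.left.presheaf.germ ⊤ v trivial s ∈ P := by
    intro P hP
    haveI : P.IsPrime := hP.1.1
    let c : Spec R := (⟨P, hP.1.1⟩ : PrimeSpectrum R)
    have hmax : IsMax (V.left.fromSpecStalk v c) := by
      intro y hy
      have hyr : y ∈ Set.range (V.left.fromSpecStalk v) := by
        rw [Scheme.range_fromSpecStalk]
        exact hy.trans ((Scheme.range_fromSpecStalk (X := V.left) (x := v)).le ⟨c, rfl⟩)
      obtain ⟨c', rfl⟩ := hyr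
      have hcc : c' ⤳ c := (V.left.fromSpecStalk v).isEmbedding.specializes_iff.1 hy
      have hle : (c' : PrimeSpectrum R).asIdeal ≤ P := (PrimeSpectrum.le_iff_specializes c' c).2 hcc
      have : (c' : PrimeSpectrum R).asIdeal = P :=
        le_antisymm hle (hP.2 ⟨(c' : PrimeSpectrum R).isPrime, bot_le⟩ hle)
      exact congrArg _ (PrimeSpectrum.ext this)
    obtain ⟨f, hf, hf0⟩ := exists_notMem_mul_germ_eq_zero v s c (h _ ((isMax_etale V.hom _).1 hmax))
    exact (hP.1.1.mem_or_mem (hf0 ▸ P.zero_mem)).resolve_left hf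
  haveI : _root_.IsReduced R := (Unr55.isReduced_stalk_iff_of_etale (Y := X) V.hom v).2
    (inferInstanceAs (_root_.IsReduced (X.presheaf.stalk (V.hom v))))
  have : V.left.presheaf.germ ⊤ v trivial s ∈ sInf (⊥ : Ideal R).minimalPrimes := Ideal.mem_sInf.2 fun {P} hP => key P hP
  rw [Ideal.sInf_minimalPrimes] at this
  obtain ⟨n, hn⟩ := this
  exact (‹_root_.IsReduced R›).eq_zero _ ⟨n, hn⟩

/-- In dimension at most one without embedded points functions are determined at the maximal points. -/
theorem eq_zero_of_dim_le_one (hdim : topologicalKrullDim X ≤ 1)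
    (hemb : ∀ x : X, (∃ y : X, y ≠ x ∧ y ⤳ x) →
      ∃ t ∈ IsLocalRing.maximalIdeal (X.presheaf.stalk x), t ∈ nonZeroDivisors (X.presheaf.stalk x))
    (V : X.Etale) (s : Γ(V.left, ⊤))
    (h : ∀ v : V.left, IsMax (V.hom v) → V.left.presheaf.germ ⊤ v trivial s = 0) : s = 0 := by
  let g : V.left ⟶ X := V.hom
  haveI : Etale g := V.prop
  refine TopCat.Presheaf.section_ext V.left.sheaf ⊤ s 0 fun v hv => ?_
  rw [map_zero]
  by_cases hvm : IsMax (g v)
  · exact h v hvm
  have hne : ∃ y, y ≠ g v ∧ y ⤳ g v := by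
    by_contra hn
    push Not at hn
    exact hvm fun y hy => by_contra fun hy' => hn y hy' hy
  obtain ⟨t, htm, ht⟩ := hemb (g v) hne
  let R := V.left.presheaf.stalk v
  let t' : R := g.stalkMap v t
  let a : R := V.left.presheaf.germ ⊤ v trivial s
  have ht'm : t' ∈ IsLocalRing.maximalIdeal R := map_nonunit (g.stalkMap v).hom t htm
  have ht' : IsSMulRegular R t' := by
    letI : Algebra (X.presheaf.stalk (g v)) R := (g.stalkMap v).hom.toAlgebra
    haveI : Module.Flat (X.presheaf.stalk (g v)) R := Flat.stalkMap g v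
    intro x y hxy
    exact Module.Flat.isSMulRegular_of_nonZeroDivisors (M := R) ht hxy
  by_contra ha
  let I : Ideal R := LinearMap.ker (LinearMap.toSpanSingleton R R a)
  have hmem : ∀ r, r ∈ I ↔ r * a = 0 := fun r => Iff.rfl
  have hdisj : Disjoint (I : Set R) (Submonoid.powers t' : Set R) := Set.disjoint_left.2 fun r hr ⟨n, hn⟩ => by
    rw [SetLike.mem_coe, hmem] at hr
    subst hn
    exact ha ((ht'.pow n) (hr.trans (mul_zero (t' ^ n)).symm))
  obtain ⟨P, hP, hIP, hPd⟩ := Ideal.exists_le_prime_disjoint I _ hdisj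
  let c : Spec R := (⟨P, hP⟩ : PrimeSpectrum R)
  let w := V.left.fromSpecStalk v c
  have hw : w ⤳ v := (Scheme.range_fromSpecStalk (X := V.left) (x := v)).le ⟨c, rfl⟩
  have hwv : w ≠ v := fun e => by
    have hc : c = IsLocalRing.closedPoint R :=
      (V.left.fromSpecStalk v).isEmbedding.injective (e.trans Scheme.fromSpecStalk_closedPoint.symm)
    have hPm : P = IsLocalRing.maximalIdeal R := congrArg PrimeSpectrum.asIdeal hc
    exact Set.disjoint_left.1 hPd (hPm ▸ ht'm) (Submonoid.mem_powers t')
  have hgw : g w ≠ g v := fun e => hwv (by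
    haveI := Unr55.locallyQuasiFinite_of_formallyUnramified g
    obtain ⟨U, hU, hUb⟩ := isDiscrete_iff_forall_mem_exists_isOpen.1 (g.isDiscrete_preimage_singleton (g v)) v rfl
    exact Set.mem_singleton_iff.1 (hUb.le ⟨hw.mem_open hU (hUb.ge rfl).1, e⟩))
  have hmax : IsMax (g w) := by
    intro y hy
    by_contra hyne
    let b : ℕ → X := fun k => if k = 0 then g v else if k = 1 then g w else y
    have h2 := Ega11.PointDim.natCast_le_dim 2 b (fun k hk => by
      rcases k with _ | _ | k
      · exact ⟨hw.map g.continuous, fun e => hgw e.symm⟩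
      · exact ⟨hy, fun e => hyne e.symm⟩
      · omega)
    exact absurd (WithBot.coe_le_coe.1 (h2.trans hdim)) (by simp)
  obtain ⟨f, hf, hf0⟩ := exists_notMem_mul_germ_eq_zero v s c (h w hmax)
  exact hf (hIP ((hmem f).2 hf0))

end Groth.Agent.Dix2
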