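import Groth.Agent.Dix2.ClosedSupp
import Groth.Agent.Dix2.MaxInj
import Groth.Agent.Dix2.ArtinGm

/-! The cohomology of the multiplicative group of a noetherian scheme of dimension at most one. -/

set_option autoImplicit false
set_option linter.style.haveILetI false
set_option backward.isDefEq.respectTransparency.types false
universe u

open CategoryTheory CategoryTheory.Limits CategoryTheory.Abelian AlgebraicGeometry Opposite TopologicalSpace
open Groth.Agent.Unr55.EtSh

namespace Groth.Agent.Dix2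

variable {X : Scheme.{u}}

theorem isClosed_of_not_isMax (hdim : topologicalKrullDim X ≤ 1) {x : X} (hx : ¬ IsMax x) :
    IsClosed ({x} : Set X) := by
  refine closure_subset_iff_isClosed.1 fun y hy => ?_
  by_contra hne
  refine hx fun z hz => ?_
  by_contra hzx
  let b : ℕ → X := fun k => if k = 0 then y else if k = 1 then x else z
  have h2 := Ega11.PointDim.natCast_le_dim 2 b (fun k hk => by
    rcases k with _ | _ | k
    · exact ⟨specializes_iff_mem_closure.2 hy, fun e => hne e⟩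
    · exact ⟨hz, fun e => hzx e.symm⟩
    · omega)
  exact absurd (WithBot.coe_le_coe.1 (h2.trans hdim)) (by simp)

variable [IsNoetherian X]

theorem supp_coker_closed (hdim : topologicalKrullDim X ≤ 1) :
    ∀ x ∈ EtPBC.supp (cokernel (phiGm X)), IsClosed ({x} : Set X) :=
  fun x hx => isClosed_of_not_isMax hdim (supp_coker_subset x hx)

/-- The long exact sequence piece. -/
theorem exists_delta [Mono (phiGm X)] {n : ℕ} (ξ : EtCoh.H X (EtCoh.Gm X) (n + 1))
    (h : (EtCoh.HF X (n + 1)).map (phiGm X) ξ = 0) :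
    ∃ (d : EtCoh.H X (cokernel (phiGm X)) n →+ EtCoh.H X (EtCoh.Gm X) (n + 1))
      (y : EtCoh.H X (cokernel (phiGm X)) n), d y = ξ := by
  let S := ShortComplex.mk (phiGm X) (cokernel.π _) (cokernel.condition _)
  have hS : S.ShortExact := { exact := ShortComplex.exact_of_g_is_cokernel S (cokernelIsCokernel _) }
  obtain ⟨y, hy⟩ := Ext.covariant_sequence_exact₁ _ hS ξ h (rfl : n + 1 = n + 1)
  exact ⟨hS.extClass.postcomp _ rfl, y, hy⟩

theorem eq_zero_or_torsion_of_components (P : ∀ {A : Type (u + 1)} [AddCommGroup A], A → Prop)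
    (hsum : ∀ {A : Type (u + 1)} [AddCommGroup A] (s : Finset (Mx X)) (a : Mx X → A), (∀ x ∈ s, P (a x)) → P (∑ x ∈ s, a x))
    (hmap : ∀ {A B : Type (u + 1)} [AddCommGroup A] [AddCommGroup B] (f : A →+ B) (a : A), P a → P (f a))
    {q : ℕ} (z : EtCoh.H X (PGm X) q) (h : ∀ x, P ((EtCoh.HF X q).map (piGm X x) z)) : P z := by
  classical
  letI := Fintype.ofFinite (Mx X)
  haveI := DCoh.additive_HF (X := X) q
  let ι' (x : Mx X) : (EtCoh.push (X.fromSpecStalk x.1)).obj (EtCoh.Gm (Spec (X.presheaf.stalk x.1))) ⟶ PGm X :=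
    biproduct.ι (fun x : Mx X => (EtCoh.push (X.fromSpecStalk x.1)).obj (EtCoh.Gm (Spec (X.presheaf.stalk x.1)))) x
  have tot : ∑ x, piGm X x ≫ ι' x = 𝟙 (PGm X) := sum_piGm
  let ev : (PGm X ⟶ PGm X) →+ EtCoh.H X (PGm X) q :=
    AddMonoidHom.mk' (fun f => (EtCoh.HF X q).map f z) fun f g => by rw [Functor.map_add]; rfl
  have e : ev (𝟙 (PGm X)) = z := by
    show (EtCoh.HF X q).map (𝟙 _) z = z
    rw [CategoryTheory.Functor.map_id]; rfl
  rw [← e, ← tot, map_sum]
  refine hsum _ _ fun x _ => ?_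
  have e2 : ev (piGm X x ≫ ι' x) = (EtCoh.HF X q).map (ι' x) ((EtCoh.HF X q).map (piGm X x) z) := by
    show (EtCoh.HF X q).map (piGm X x ≫ ι' x) z = _
    rw [Functor.map_comp]; rfl
  rw [e2]
  exact hmap ((EtCoh.HF X q).map (ι' x)).hom _ (h x)

theorem isAddTorsion_H_Gm_of_dim_le_one [IsReduced X] (hdim : topologicalKrullDim X ≤ 1) (q : ℕ) (hq : 2 ≤ q) :
    IsAddTorsion (EtCoh.H X (EtCoh.Gm X) q) := by
  haveI := mono_phiGm (X := X) (fun V s h => eq_zero_of_reduced V s h)
  obtain ⟨n, rfl⟩ : ∃ n, q = n + 2 := ⟨q - 2, by omega⟩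
  intro ξ
  have hP : IsOfFinAddOrder ((EtCoh.HF X (n + 2)).map (phiGm X) ξ) := by
    refine eq_zero_or_torsion_of_components (fun a => IsOfFinAddOrder a) ?_
      (fun f a ha => f.isOfFinAddOrder ha) _ fun x => ?_
    · intro A _ s a ha
      exact (AddCommGroup.torsion A).sum_mem ha
    · let R := X.presheaf.stalk x.1
      haveI : Subsingleton (PrimeSpectrum R) := subsingleton_spec_stalk x.2
      haveI : Ring.KrullDimLE 0 R :=
        Ring.krullDimLE_iff.2 (Order.krullDim_nonpos_of_subsingleton)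
      letI : Field R := (Ring.KrullDimLE.isField_of_isReduced (R := R)).toField
      haveI : QuasiCompact (X.fromSpecStalk x.1) := inferInstance
      exact isAddTorsion_H_push (K := R) (X.fromSpecStalk x.1) (n + 1) (EtCoh.Gm _) _
  obtain ⟨N, hN, h0⟩ := isOfFinAddOrder_iff_nsmul_eq_zero.1 hP
  rw [← map_nsmul] at h0
  obtain ⟨d, y, hy⟩ := exists_delta (n := n + 1) (N • ξ) h0
  obtain ⟨M, hM, hM0⟩ := isOfFinAddOrder_iff_nsmul_eq_zero.1
    (isAddTorsion_H_supp _ (supp_coker_closed hdim) (n + 1) (by omega) y)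
  refine isOfFinAddOrder_iff_nsmul_eq_zero.2 ⟨N * M, Nat.mul_pos hN hM, ?_⟩
  rw [mul_nsmul, ← hy, ← map_nsmul, hM0, map_zero]

theorem eq_zero_of_restrict_maximalPoints (hdim : topologicalKrullDim X ≤ 1)
    (hemb : ∀ x : X, (∃ y : X, y ≠ x ∧ y ⤳ x) →
      ∃ t ∈ IsLocalRing.maximalIdeal (X.presheaf.stalk x), t ∈ nonZeroDivisors (X.presheaf.stalk x))
    (hsep : ∀ x : X, IsClosed ({x} : Set X) → IsSepClosed (X.residueField x))
    [∀ x : X, PreservesFiniteLimits (EtCoh.pull (X.fromSpecStalk x))] (ξ : EtCoh.H X (EtCoh.Gm X) 2)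
    (hξ : ∀ x : X, IsMax x → EtLim.HGmPull (X.fromSpecStalk x) 2 ξ = 0) : ξ = 0 := by
  haveI := mono_phiGm (X := X) (fun V s h => eq_zero_of_dim_le_one hdim hemb V s h)
  have hP : (EtCoh.HF X 2).map (phiGm X) ξ = 0 := by
    refine eq_zero_or_torsion_of_components (fun a => a = 0) (fun s a ha => Finset.sum_eq_zero ha)
      (fun f a ha => ha ▸ map_zero f) _ fun x => ?_
    let R := X.presheaf.stalk x.1
    haveI : Subsingleton (PrimeSpectrum R) := subsingleton_spec_stalk x.2
    haveI : Ring.KrullDimLE 0 R := Ring.krullDimLE_iff.2 (Order.krullDim_nonpos_of_subsingleton)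
    haveI : IsNoetherianRing R := inferInstance
    refine @Artin.injective_HofPush_two_Gm R R.commRing
      (isArtinianRing_iff_isNoetherianRing_krullDimLE_zero.2 ⟨inferInstance, inferInstance⟩) X
      (X.fromSpecStalk x.1) inferInstance inferInstance (by exact (inferInstance : PreservesFiniteLimits (EtCoh.pull (X.fromSpecStalk x.1)))) _ _ ?_
    refine Eq.trans ?_ ((hξ x.1 x.2).trans (map_zero _).symm)
    refine congrArg (EtLim.HofPush (X.fromSpecStalk x.1) (EtCoh.Gm _) 2) ?_
    rw [← ConcreteCategory.comp_apply, ← Functor.map_comp, phiGm_π]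
    rfl
  obtain ⟨d, y, hy⟩ := exists_delta (n := 1) ξ hP
  rw [← hy, (subsingleton_H_supp _ (supp_coker_closed hdim) hsep 1 le_rfl).elim y 0, map_zero]

end Groth.Agent.Dix2
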