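import Groth.Agent.Hopf35.NormBC
import Groth.Prelude.Def_EtLim
import Groth.Prelude.Def_Mor2

/-! The norm `f_* G_m ⟶ G_m` on small étale sites of a finite locally free morphism, and its degree. -/

set_option autoImplicit false
set_option linter.style.haveILetI false
set_option backward.isDefEq.respectTransparency.types false

universe u

open CategoryTheory CategoryTheory.Limits AlgebraicGeometry TopologicalSpace Opposite
open Groth.Agent.EGA73 Groth.Agent.Var76.ZeroScheme Groth.Agent.Hopf35.Nm

noncomputable section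

namespace Groth.Agent.Dix2

variable {X Y : Scheme.{u}} (f : X ⟶ Y) [IsFinite f] [Flat f] [LocallyOfFinitePresentation f]

/-- The projection of the base change to an étale `V → Y`. -/
abbrev prj (V : Y.Etale) : ((EtCoh.bc f).obj V).left ⟶ V.left := pullback.fst V.hom f

instance (V : Y.Etale) : IsFinite (prj f V) := MorphismProperty.pullback_fst _ _ inferInstance
instance (V : Y.Etale) : Flat (prj f V) := MorphismProperty.pullback_fst _ _ inferInstance
instance (V : Y.Etale) : LocallyOfFinitePresentation (prj f V) := MorphismProperty.pullback_fst _ _ inferInstance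

/-- A monoid map of rings on lifted units. -/
def unitsMap {R S : Type u} [CommRing R] [CommRing S] (φ : R →* S) :
    ULift.{u + 1} (Additive Rˣ) →+ ULift.{u + 1} (Additive Sˣ) :=
  AddEquiv.ulift.symm.toAddMonoidHom.comp ((Units.map φ).toAdditive.comp AddEquiv.ulift.toAddMonoidHom)

/-- The norm on units. -/
def normGm : (EtCoh.push f).obj (EtCoh.Gm X) ⟶ EtCoh.Gm Y :=
  ObjectProperty.homMk
    { app := fun V => AddCommGrpCat.ofHom (unitsMap (R := Γ(((EtCoh.bc f).obj (unop V)).left, ⊤))
        (S := Γ((unop V).left, ⊤)) (Nm (prj f (unop V))))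
      naturality := fun V V' g => AddCommGrpCat.ext fun s => ULift.ext _ _ (congrArg Additive.ofMul (Units.ext
        (Nm_natural (prj f (unop V)) (prj f (unop V')) g.unop.left _ (EtCoh.isPullback_bc_map f g.unop) _).symm)) }

/-- The norm of a pulled back function is its `d`-th power. -/
theorem Nm_appTop {P Z : Scheme.{u}} (π : P ⟶ Z) [IsFinite π] [Flat π] [LocallyOfFinitePresentation π] {d : ℕ}
    (hd : ∀ z, π.finrank z = d) (a : Γ(Z, ⊤)) : Nm π (π.appTop a) = a ^ d := by
  refine TopCat.Presheaf.section_ext Z.sheaf ⊤ _ _ fun z _ => ?_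
  obtain ⟨V₀, hz₀, hc₀⟩ := (chartOK π).chart z
  obtain ⟨V, hV, hz, hle⟩ := exists_isAffineOpen_mem_and_subset hz₀
  obtain ⟨n, s, hs⟩ := hc₀
  have hs' := hs.res π hle
  have hn : n = d := (finrank_eq_of_natBasis π hV hs' hz).symm.trans (hd z)
  have h : fres (le_top : V ≤ ⊤) (Nm π (π.appTop a)) = fres (le_top : V ≤ ⊤) (a ^ d) := by
    refine (Nm_spec π _ ⟨n, _, hs'⟩).trans ?_
    refine (congrArg (nrm π V) (app_fres π (le_top : V ≤ ⊤) a).symm).trans ?_
    rw [NatBasis.nrm_app π hs', hn]
    exact (map_pow (Z.presheaf.map (homOfLE (le_top : V ≤ ⊤)).op).hom a d).symm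
  have := congrArg (Z.presheaf.germ V z hz) h
  simp only [fres] at this
  exact ((TopCat.Presheaf.germ_res_apply _ _ _ _ _).symm.trans this).trans (TopCat.Presheaf.germ_res_apply _ _ _ _ _)

theorem GmPush_normGm {d : ℕ} (hd : ∀ y, f.finrank y = d) :
    EtLim.GmPush f ≫ normGm f = EtCoh.powMap Y d := by
  refine Sheaf.hom_ext (NatTrans.ext (funext fun V => AddCommGrpCat.ext fun s => ?_))
  change ULift.{u + 1} (Additive (Γ((unop V).left, ⊤))ˣ) at s
  have h : (ConcreteCategory.hom ((EtCoh.powMap Y d).hom.app V)) s = d • s := rfl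
  rw [h]
  exact ULift.ext _ _ (congrArg Additive.ofMul (Units.ext
    ((Nm_appTop (prj f (unop V)) (fun z => (Scheme.Hom.finrank_pullback_fst f _ z).trans (hd _))
      (s.down.toMul : Γ((unop V).left, ⊤)ˣ)).trans (Units.val_pow_eq_pow_val _ d).symm)))

end Groth.Agent.Dix2
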