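import Groth.Agent.Dix2.MaxPt
import Groth.Agent.EtLim45.Quot
import Mathlib.CategoryTheory.Preadditive.Biproducts

/-! The sequence comparing the multiplicative group with its direct images from the maximal points. -/

set_option autoImplicit false
set_option linter.style.haveILetI false
set_option backward.isDefEq.respectTransparency.types false
universe u

open CategoryTheory CategoryTheory.Limits AlgebraicGeometry Opposite TopologicalSpace
open Groth.Agent.Unr55.EtSh

namespace Groth.Agent.Dix2

variable (X : Scheme.{u}) [IsNoetherian X]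

/-- The maximal points. -/
abbrev Mx : Type u := {x : X // IsMax x}

instance finite_mx : Finite (Mx X) := (finite_isMax (X := X)).to_subtype

/-- The product of the direct images of the multiplicative groups of the local rings at the maximal points. -/
noncomputable def PGm : EtCoh.Ab X :=
  ⨁ fun x : Mx X => (EtCoh.push (X.fromSpecStalk x.1)).obj (EtCoh.Gm (Spec (X.presheaf.stalk x.1)))

/-- Restriction of units to the local rings at the maximal points. -/
noncomputable def phiGm : EtCoh.Gm X ⟶ PGm X :=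
  biproduct.lift fun x : Mx X => EtLim.GmPush (X.fromSpecStalk x.1)

/-- The projection to a component. -/
noncomputable def piGm (x : Mx X) :
    PGm X ⟶ (EtCoh.push (X.fromSpecStalk x.1)).obj (EtCoh.Gm (Spec (X.presheaf.stalk x.1))) :=
  biproduct.π _ x

theorem phiGm_π (x : Mx X) : phiGm X ≫ piGm X x = EtLim.GmPush (X.fromSpecStalk x.1) :=
  biproduct.lift_π _ _

variable {X}

theorem sum_piGm [Fintype (Mx X)] :
    ∑ x, piGm X x ≫ biproduct.ι (fun x : Mx X => (EtCoh.push (X.fromSpecStalk x.1)).obj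
      (EtCoh.Gm (Spec (X.presheaf.stalk x.1)))) x = 𝟙 (PGm X) := by
  classical
  refine biproduct.hom_ext _ _ fun y => ?_
  rw [Preadditive.sum_comp, Finset.sum_eq_single y]
  · simp [piGm, PGm]
  · intro x _ hx
    simp [piGm, biproduct.ι_π_ne _ hx]
  · simp

theorem sect_PGm_eq_zero (V : X.Etale) (σ : EtCoh.sect (PGm X) V)
    (h : ∀ x : Mx X, (piGm X x).hom.app (op V) σ = 0) : σ = 0 := by
  classical
  letI := Fintype.ofFinite (Mx X)
  let ev : (PGm X ⟶ PGm X) →+ EtCoh.sect (PGm X) V :=
    AddMonoidHom.mk' (fun f => f.hom.app (op V) σ) fun _ _ => rfl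
  have e : ev (𝟙 (PGm X)) = σ := rfl
  have tot : ∑ x, piGm X x ≫ biproduct.ι (fun x : Mx X => (EtCoh.push (X.fromSpecStalk x.1)).obj
      (EtCoh.Gm (Spec (X.presheaf.stalk x.1)))) x = 𝟙 (PGm X) := by
    refine biproduct.hom_ext _ _ fun y => ?_
    rw [Preadditive.sum_comp, Finset.sum_eq_single y]
    · simp [piGm, PGm]
    · intro x _ hx
      simp [piGm, biproduct.ι_π_ne _ hx]
    · simp
  rw [← e, ← tot]
  refine (map_sum ev _ _).trans ?_
  refine Finset.sum_eq_zero fun x _ => ?_
  let i : (EtCoh.push (X.fromSpecStalk x.1)).obj (EtCoh.Gm (Spec (X.presheaf.stalk x.1))) ⟶ PGm X :=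
    biproduct.ι (fun x : Mx X => (EtCoh.push (X.fromSpecStalk x.1)).obj (EtCoh.Gm (Spec (X.presheaf.stalk x.1)))) x
  exact (congrArg (i.hom.app (op V)) (h x)).trans (map_zero _)

theorem subsingleton_units_of_isEmpty {P : Scheme.{u}} [IsEmpty P] : Subsingleton (EtCoh.ΓUnits.obj (op P)) := by
  have e : (⊤ : P.Opens) = ⊥ := TopologicalSpace.Opens.ext (Set.eq_empty_of_isEmpty _)
  haveI : Subsingleton Γ(P, ⊤) := by rw [e]; infer_instance
  exact ⟨fun _ _ => uval_ext (Subsingleton.elim _ _)⟩

theorem isMax_hom {V : X.Etale} (v : V.left) : IsMax v ↔ IsMax (V.hom v) :=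
  haveI : Etale V.hom := V.prop
  isMax_etale V.hom v

/-- Near a maximal point every section of the product comes from a unit. -/
theorem exists_phiGm_near (V : X.Etale) [IsAffine V.left] (v : V.left) (hv : IsMax (V.hom v))
    (σ : EtCoh.sect (PGm X) V) :
    ∃ (O : V.left.Opens) (O' : (openSub V O).left.Opens) (v' : (openSub V O).left)
      (c : EtCoh.sect (EtCoh.Gm X) (openSub (openSub V O) O')),
      v' ∈ O' ∧ (openSubι V O).left v' = v ∧
      (phiGm X).hom.app (op (openSub (openSub V O) O')) c =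
        (PGm X).obj.map (openSubι (openSub V O) O').op ((PGm X).obj.map (openSubι V O).op σ) := by
  let g : V.left ⟶ X := V.hom
  haveI : Etale g := V.prop
  haveI := Unr55.locallyQuasiFinite_of_formallyUnramified g
  let S : Set V.left := {w | IsMax (g w) ∧ w ≠ v}
  haveI : QuasiCompact g := inferInstance
  have hfin : S.Finite := by
    refine Set.Finite.subset ((finite_isMax (X := X)).preimage' fun x _ => g.finite_preimage_singleton x) ?_
    exact fun w hw => hw.1
  let O : V.left.Opens := ⟨(⋃ w ∈ S, closure {w})ᶜ, (hfin.isClosed_biUnion fun w _ => isClosed_closure).isOpen_compl⟩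
  have hvO : v ∈ O := fun h => by
    obtain ⟨w, hw, hwv⟩ := Set.mem_iUnion₂.1 h
    exact hw.2 ((isMax_hom v).2 hv w (specializes_iff_mem_closure.2 hwv))
  have hO : ∀ w ∈ O, IsMax (g w) → w = v := fun w hw hm => by
    by_contra hne
    exact hw (Set.mem_iUnion₂.2 ⟨w, ⟨hm, hne⟩, subset_closure rfl⟩)
  obtain ⟨v', hv'⟩ : v ∈ Set.range (openSubι V O).left := (range_openSubι V O).symm ▸ hvO
  have hι : ∀ w, (openSub V O).hom w = g ((openSubι V O).left w) := fun w => rfl
  have hmem : ∀ w, (openSubι V O).left w ∈ O := fun w => (range_openSubι V O).le ⟨w, rfl⟩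
  have huniq : ∀ w, IsMax ((openSub V O).hom w) → w = v' := fun w hw => by
    haveI : IsOpenImmersion (openSubι V O).left := inferInstanceAs (IsOpenImmersion O.ι)
    exact (openSubι V O).left.isOpenEmbedding.injective ((hO _ (hmem w) hw).trans hv'.symm)
  let x₀ : Mx X := ⟨V.hom v, hv⟩
  have hx₀ : (openSub V O).hom v' = x₀.1 := (hι v').trans (congrArg g hv')
  let σ' := (PGm X).obj.map (openSubι V O).op σ
  obtain ⟨O', c, hvO', hc⟩ := exists_unit_near (openSub V O) v' x₀.1 hx₀ x₀.2
    (fun w hw => huniq w (hw ▸ x₀.2)) ((piGm X x₀).hom.app (op (openSub V O)) σ')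
  refine ⟨O, O', v', c, hvO', hv', sub_eq_zero.1 (sect_PGm_eq_zero _ _ fun x => ?_)⟩
  refine ((piGm X x).hom.app _).hom.map_sub _ _ |>.trans (sub_eq_zero.2 ?_)
  rw [NatTrans.naturality_apply (piGm X x).hom]
  by_cases hx : x = x₀
  · subst hx
    refine Eq.trans ?_ hc
    exact congrArg (fun k => k.hom.app _ c) (phiGm_π X x₀)
  · let W := openSub (openSub V O) O'
    haveI : IsEmpty ((EtCoh.bc (X.fromSpecStalk x.1)).obj W).left := by
      refine Scheme.isEmpty_pullback W.hom (X.fromSpecStalk x.1) (Set.disjoint_left.2 ?_)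
      rintro _ ⟨w, rfl⟩ ⟨b, hb⟩
      rw [fromSpecStalk_apply x.2] at hb
      have hw : x.1 = (openSub V O).hom ((openSubι (openSub V O) O').left w) := hb
      have he := huniq _ (hw ▸ x.2)
      exact hx (Subtype.ext (hw.trans ((congrArg _ he).trans hx₀)))
    exact (subsingleton_units_of_isEmpty (P := ((EtCoh.bc (X.fromSpecStalk x.1)).obj W).left)).elim _ _

theorem stalk_coker_eq_zero {Ω : Type u} [Field Ω] [IsSepClosed Ω] (η : Spec (CommRingCat.of Ω) ⟶ X)
    (hη : IsMax (η default)) (a : ((EtCoh.stalk η).obj (cokernel (phiGm X)) : AddCommGrpCat.{u + 1})) : a = 0 := by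
  obtain ⟨b, rfl⟩ := (AddCommGrpCat.epi_iff_surjective ((EtCoh.stalk η).map (cokernel.π (phiGm X)))).1 inferInstance a
  obtain ⟨V, hV, t, σ, rfl⟩ := Cons51.exists_germ_affine η _ b
  have ht : V.hom (hom η t default) = η default := by
    rw [← Scheme.Hom.comp_apply, show hom η t ≫ V.hom = η from Over.w t]
  obtain ⟨O, O', v', c, hv', hvv, hc⟩ := exists_phiGm_near V (hom η t default) (ht ▸ hη) σ
  have hO : hom η t default ∈ O := hvv ▸ (range_openSubι V O).le ⟨v', rfl⟩
  let t₁ : Pt η (openSub V O) := ptOpen O t hO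
  have ht₁ : hom η t₁ default = v' := by
    haveI : IsOpenImmersion (openSubι V O).left := inferInstanceAs (IsOpenImmersion O.ι)
    refine (openSubι V O).left.isOpenEmbedding.injective (Eq.trans ?_ hvv.symm)
    exact congrArg (fun q => hom η q default) (map_ptOpen O t hO)
  let t₂ := ptOpen O' t₁ (ht₁ ▸ hv')
  have e : germ η (PGm X) t σ = (EtCoh.stalk η).map (phiGm X) (germ η (EtCoh.Gm X) t₂ c) := by
    rw [stalk_map_germ, hc, germ_map, map_ptOpen, germ_map, map_ptOpen]
  rw [e, ← ConcreteCategory.comp_apply, ← Functor.map_comp, cokernel.condition, Functor.map_zero]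
  rfl

theorem supp_coker_subset : ∀ x ∈ EtPBC.supp (cokernel (phiGm X)), ¬ IsMax x := by
  rintro x ⟨Ω, _, _, η, hη, hne⟩ hx
  refine hne ?_
  haveI : Subsingleton ((EtCoh.stalk η).obj (cokernel (phiGm X)) : AddCommGrpCat.{u + 1}) :=
    subsingleton_of_forall_eq 0 (stalk_coker_eq_zero η (by rwa [(Cons51.range_eq_singleton η x).1 hη]))
  exact AddCommGrpCat.isZero_of_subsingleton _

theorem germ_uval_of_phiGm_eq_zero (V : X.Etale) (v : V.left) (hv : IsMax (V.hom v))
    (s : EtCoh.sect (EtCoh.Gm X) V) (h : (phiGm X).hom.app (op V) s = 0) :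
    V.left.presheaf.germ ⊤ v trivial (uval (X := V.left) s) = 1 := by
  let g : V.left ⟶ X := V.hom
  let x₀ : Mx X := ⟨g v, hv⟩
  let j := X.fromSpecStalk (g v)
  have h1 : (EtLim.GmPush j).hom.app (op V) s = 0 :=
    (congrArg (fun k => k.hom.app (op V) s) (phiGm_π X x₀)).symm.trans
      ((congrArg ((piGm X x₀).hom.app (op V)) h).trans (map_zero _))
  have h2 : (pullback.fst g j).appTop (uval (X := V.left) s) = 1 :=
    congrArg (fun z => uval (X := ((EtCoh.bc j).obj V).left) z) h1
  rw [← appTop_fromSpecStalk, ← rMap_fst g v, Scheme.Hom.comp_appTop, ConcreteCategory.comp_apply]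
  erw [h2]
  rw [map_one, map_one]

/-- Units are determined at the maximal points if functions are. -/
theorem mono_phiGm
    (hinj : ∀ (V : X.Etale) (s : Γ(V.left, ⊤)),
      (∀ v : V.left, IsMax (V.hom v) → V.left.presheaf.germ ⊤ v trivial s = 0) → s = 0) :
    Mono (phiGm X) := by
  have : Mono (phiGm X).hom := by
    rw [NatTrans.mono_iff_mono_app]
    intro U
    refine (AddCommGrpCat.mono_iff_injective _).2 ((injective_iff_map_eq_zero _).2 fun s hs => ?_)
    refine uval_ext (X := U.unop.left) (sub_eq_zero.1 (hinj U.unop _ fun v hv => ?_))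
    rw [map_sub, sub_eq_zero]
    refine (germ_uval_of_phiGm_eq_zero U.unop v hv s hs).trans ?_
    exact (map_one _).symm
  exact (sheafToPresheaf X.smallEtaleTopology AddCommGrpCat.{u + 1}).mono_of_mono_map this

end Groth.Agent.Dix2
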