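import Groth.Agent.Dix2.SkyTorsion
import Groth.Agent.Unr55.QFComponents
import Groth.Agent.Unr55.GeomCount
import Groth.Prelude.Def_EtLim
import Groth.Agent.Cons51.Supp

/-! The multiplicative group and its direct images from the spectra of the local rings at the maximal points. -/

set_option autoImplicit false
set_option linter.style.haveILetI false
set_option backward.isDefEq.respectTransparency.types false
universe u

open CategoryTheory CategoryTheory.Limits AlgebraicGeometry Opposite TopologicalSpace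
open Groth.Agent.Unr55.EtSh

namespace Groth.Agent.Dix2

/-- The function underlying a section of the units. -/
noncomputable def uval {X : Scheme.{u}} (z : EtCoh.ΓUnits.obj (op X)) : Γ(X, ⊤) :=
  (Additive.toMul z.down).val

theorem uval_map {X Y : Scheme.{u}} (f : X ⟶ Y) (z : EtCoh.ΓUnits.obj (op Y)) :
    uval (EtCoh.ΓUnits.map f.op z) = f.appTop (uval z) := rfl

theorem uval_ext {X : Scheme.{u}} {z w : EtCoh.ΓUnits.obj (op X)} (h : uval z = uval w) : z = w :=
  ULift.ext _ _ (Additive.toMul.injective (Units.ext h))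

theorem uval_zero (X : Scheme.{u}) : uval (0 : EtCoh.ΓUnits.obj (op X)) = 1 := rfl

theorem appTop_fromSpecStalk {V : Scheme.{u}} (v : V) (s : Γ(V, ⊤)) :
    (Scheme.ΓSpecIso (V.presheaf.stalk v)).hom ((V.fromSpecStalk v).appTop s) =
      V.presheaf.germ ⊤ v trivial s := by
  have e : (V.fromSpecStalk v).appTop ≫ (Scheme.ΓSpecIso (V.presheaf.stalk v)).hom = V.presheaf.germ ⊤ v trivial := by
    simp [Scheme.fromSpecStalk_appTop]
  exact ConcreteCategory.congr_hom e s

/-- The inverse of the function underlying a section of the units. -/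
noncomputable def uinv {X : Scheme.{u}} (z : EtCoh.ΓUnits.obj (op X)) : Γ(X, ⊤) :=
  (Additive.toMul z.down).inv

theorem uval_mul_uinv {X : Scheme.{u}} (z : EtCoh.ΓUnits.obj (op X)) : uval z * uinv z = 1 :=
  (Additive.toMul z.down).val_inv

theorem appTop_fromSpecStalkOfMem {W : Scheme.{u}} (O : W.Opens) (v : W) (hv : v ∈ O) :
    O.topIso.inv ≫ (O.fromSpecStalkOfMem v hv).appTop ≫ (Scheme.ΓSpecIso (W.presheaf.stalk v)).hom =
      W.presheaf.germ O v hv := by
  apply Spec.map_injective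
  rw [← O.fromSpecStalkOfMem_toSpecΓ v hv]
  simp only [Spec.map_comp, Scheme.Opens.toSpecΓ, SpecMap_ΓSpecIso_hom, Category.assoc]
  rw [← Scheme.toSpecΓ_naturality_assoc]

variable {X : Scheme.{u}}

/-- A point without proper generisations. -/
def IsMax (x : X) : Prop := ∀ y, y ⤳ x → y = x

theorem isMax_iff (x : X) : IsMax x ↔ x ∈ genericPoints X := (Unr55.mem_genericPoints_iff_forall x).symm

theorem finite_isMax [IsNoetherian X] : {x : X | IsMax x}.Finite := by
  refine Set.Finite.of_injOn (f := fun x => closure ({x} : Set X)) (fun x hx => ((isMax_iff x).1 hx))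
    (fun x _ y _ h => (specializes_iff_closure_subset.2 h.ge).antisymm (specializes_iff_closure_subset.2 h.le) |>.eq)
    NoetherianSpace.finite_irreducibleComponents

theorem isMax_etale {V : Scheme.{u}} (g : V ⟶ X) [Etale g] (v : V) : IsMax v ↔ IsMax (g v) := by
  have := Unr55.locallyQuasiFinite_of_formallyUnramified g
  rw [isMax_iff, isMax_iff]
  exact Unr55.mem_genericPoints_iff_apply g v

theorem subsingleton_spec_stalk {x : X} (hx : IsMax x) : Subsingleton (Spec (X.presheaf.stalk x)) := by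
  refine ⟨fun a b => (X.fromSpecStalk x).isEmbedding.injective ?_⟩
  have h : ∀ c, X.fromSpecStalk x c = x := fun c =>
    hx _ ((Scheme.range_fromSpecStalk (X := X) (x := x)).le ⟨c, rfl⟩)
  rw [h a, h b]

theorem fromSpecStalk_apply {x : X} (hx : IsMax x) (c : Spec (X.presheaf.stalk x)) : X.fromSpecStalk x c = x :=
  hx _ ((Scheme.range_fromSpecStalk (X := X) (x := x)).le ⟨c, rfl⟩)

/-- The comparison of the spectrum of a local ring upstairs with the base change. -/
noncomputable def rMap {V : Scheme.{u}} (g : V ⟶ X) (v : V) :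
    Spec (V.presheaf.stalk v) ⟶ pullback g (X.fromSpecStalk (g v)) :=
  pullback.lift (V.fromSpecStalk v) (Spec.map (g.stalkMap v)) (Scheme.SpecMap_stalkMap_fromSpecStalk g).symm

theorem rMap_fst {V : Scheme.{u}} (g : V ⟶ X) (v : V) :
    rMap g v ≫ pullback.fst _ _ = V.fromSpecStalk v := pullback.lift_fst _ _ _

theorem isIso_rMap {V : Scheme.{u}} (g : V ⟶ X) (v : V) (hmax : IsMax (g v))
    (huniq : ∀ w, g w = g v → w = v) : IsIso (rMap g v) := by
  let P := pullback g (X.fromSpecStalk (g v))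
  let q : P ⟶ V := pullback.fst _ _
  haveI : IsPreimmersion q := MorphismProperty.pullback_fst _ _ inferInstance
  have hq : ∀ z, q z = v := fun z => huniq _ (by
    show g (pullback.fst g (X.fromSpecStalk (g v)) z) = g v
    rw [← Scheme.Hom.comp_apply, pullback.condition, Scheme.Hom.comp_apply, fromSpecStalk_apply hmax])
  haveI hsub : Subsingleton P := ⟨fun a b => q.isEmbedding.injective ((hq a).trans (hq b).symm)⟩
  let z₀ : P := rMap g v (IsLocalRing.closedPoint _)
  haveI : IsAffine P := by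
    obtain ⟨W, hW, hzW, -⟩ := exists_isAffineOpen_mem_and_subset (X := P) (x := z₀) (U := ⊤) trivial
    have hWt : W = ⊤ := TopologicalSpace.Opens.ext (Set.eq_univ_of_forall fun t => hsub.elim t z₀ ▸ hzW)
    subst hWt
    haveI : IsAffine (⊤ : P.Opens).toScheme := hW
    exact IsAffine.of_isIso P.topIso.inv
  haveI : Subsingleton (Spec Γ(P, ⊤)) :=
    ⟨fun a b => P.isoSpec.inv.isEmbedding.injective (hsub.elim _ _)⟩
  haveI : Nonempty (Spec Γ(P, ⊤)) := ⟨P.isoSpec.hom z₀⟩
  haveI : IsLocalRing Γ(P, ⊤) := by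
    let p : PrimeSpectrum Γ(P, ⊤) := P.isoSpec.hom z₀
    have hne : p.asIdeal ≠ ⊤ := p.isPrime.ne_top
    haveI : Nontrivial Γ(P, ⊤) := nontrivial_of_ne (0 : Γ(P, ⊤)) 1 fun h => hne ((Ideal.eq_top_iff_one _).2 (h ▸ p.asIdeal.zero_mem))
    obtain ⟨m, hm⟩ := Ideal.exists_maximal Γ(P, ⊤)
    refine IsLocalRing.of_unique_max_ideal ⟨m, hm, fun n hn => ?_⟩
    exact congrArg PrimeSpectrum.asIdeal (Subsingleton.elim (α := Spec Γ(P, ⊤)) ⟨n, hn.isPrime⟩ ⟨m, hm.isPrime⟩)
  let f : Spec Γ(P, ⊤) ⟶ V := P.isoSpec.inv ≫ q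
  have hf : f (IsLocalRing.closedPoint _) = v := hq _
  obtain ⟨h, hh⟩ : ∃ h : Spec Γ(P, ⊤) ⟶ Spec (V.presheaf.stalk v), h ≫ V.fromSpecStalk v = f :=
    hf ▸ ⟨Spec.map (Scheme.stalkClosedPointTo f), Scheme.Spec_stalkClosedPointTo_fromSpecStalk f⟩
  haveI : Mono q := inferInstance
  refine ⟨P.isoSpec.hom ≫ h, ?_, ?_⟩
  · rw [← cancel_mono (V.fromSpecStalk v), Category.assoc, Category.assoc, hh, Iso.hom_inv_id_assoc,
      Category.id_comp]
    exact rMap_fst g v
  · rw [← cancel_mono q, Category.assoc, rMap_fst, Category.assoc, hh, Iso.hom_inv_id_assoc, Category.id_comp]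

/-- The units on the pullback to the local ring at a maximal point. -/
theorem exists_unit_near (V : X.Etale) (v : V.left) (x : X) (hx : V.hom v = x) (hmax : IsMax x)
    (huniq : ∀ w, V.hom w = x → w = v)
    (z : EtCoh.sect ((EtCoh.push (X.fromSpecStalk x)).obj (EtCoh.Gm (Spec (X.presheaf.stalk x)))) V) :
    ∃ (O : V.left.Opens) (c : EtCoh.sect (EtCoh.Gm X) (openSub V O)), v ∈ O ∧
      (EtLim.GmPush (X.fromSpecStalk x)).hom.app (op (openSub V O)) c =
        ((EtCoh.push (X.fromSpecStalk x)).obj (EtCoh.Gm _)).obj.map (openSubι V O).op z := by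
  subst hx
  let g : V.left ⟶ X := V.hom
  haveI := isIso_rMap g v hmax huniq
  let j := X.fromSpecStalk (g v)
  let i := Scheme.ΓSpecIso (V.left.presheaf.stalk v)
  let a : EtCoh.ΓUnits.obj (op ((EtCoh.bc j).obj V).left) := z
  let r : Spec (V.left.presheaf.stalk v) ⟶ ((EtCoh.bc j).obj V).left := rMap g v
  haveI : IsIso r := isIso_rMap g v hmax huniq
  let α := i.hom (r.appTop (uval a))
  let β := i.hom (r.appTop (uinv a))
  have hαβ : α * β = 1 := by
    simp only [α, β, ← map_mul, uval_mul_uinv a,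
      map_one]
  obtain ⟨U₁, h₁, b, hb⟩ := V.left.presheaf.germ_exist (x := v) α
  obtain ⟨U₂, h₂, c, hc⟩ := V.left.presheaf.germ_exist (x := v) β
  let U := U₁ ⊓ U₂
  obtain ⟨O', hvO, i₁, i₂, heq⟩ := V.left.presheaf.germ_eq v (show v ∈ U from ⟨h₁, h₂⟩) (show v ∈ U from ⟨h₁, h₂⟩)
    (V.left.presheaf.map (homOfLE (inf_le_left : U ≤ U₁)).op b * V.left.presheaf.map (homOfLE (inf_le_right : U ≤ U₂)).op c) 1
    (by
      rw [map_mul, map_one, TopCat.Presheaf.germ_res_apply, TopCat.Presheaf.germ_res_apply]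
      erw [hb, hc]
      exact hαβ)
  let O : V.left.Opens := O'
  let b₀ := V.left.presheaf.map i₁.op (V.left.presheaf.map (homOfLE (inf_le_left : U ≤ U₁)).op b)
  let c₀ := V.left.presheaf.map i₁.op (V.left.presheaf.map (homOfLE (inf_le_right : U ≤ U₂)).op c)
  have hbc : b₀ * c₀ = 1 := by
    rw [← map_mul, heq, map_one]
  have hb₀ : V.left.presheaf.germ O v hvO b₀ = α := by
    simp only [b₀, TopCat.Presheaf.germ_res_apply]
    exact hb
  let w : EtCoh.ΓUnits.obj (op (openSub V O).left) :=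
    ULift.up (Additive.ofMul (Units.mkOfMulEqOne (O.topIso.inv b₀) (O.topIso.inv c₀)
      ((map_mul _ _ _).symm.trans ((congrArg _ hbc).trans (map_one _)))))
  refine ⟨O, w, hvO, uval_ext (X := ((EtCoh.bc j).obj (openSub V O)).left) ?_⟩
  let m : ((EtCoh.bc j).obj (openSub V O)).left ⟶ ((EtCoh.bc j).obj V).left := ((EtCoh.bc j).map (openSubι V O)).left
  let qO : ((EtCoh.bc j).obj (openSub V O)).left ⟶ O.toScheme := pullback.fst (openSub V O).hom j
  let qV : ((EtCoh.bc j).obj V).left ⟶ V.left := pullback.fst V.hom j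
  have sq : IsPullback m qO qV O.ι := EtCoh.isPullback_bc_map j (openSubι V O)
  haveI : IsOpenImmersion m := MorphismProperty.of_isPullback sq.flip (isOI_ι' O)
  let k : Spec (V.left.presheaf.stalk v) ⟶ ((EtCoh.bc j).obj (openSub V O)).left :=
    sq.lift r (O.fromSpecStalkOfMem v hvO) ((rMap_fst g v).trans (O.fromSpecStalkOfMem_ι v hvO).symm)
  have hkm : k ≫ m = r := sq.lift_fst _ _ _
  have hkq : k ≫ qO = O.fromSpecStalkOfMem v hvO := sq.lift_snd _ _ _
  haveI : IsIso k := by
    refine ⟨m ≫ inv r, ?_, ?_⟩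
    · rw [← Category.assoc, hkm, IsIso.hom_inv_id]
    · rw [← cancel_mono m]
      simp [hkm]
  haveI : IsIso (Scheme.Hom.appTop k) := inferInstanceAs (IsIso (Scheme.Γ.map k.op))
  refine (ConcreteCategory.bijective_of_isIso (Scheme.Hom.appTop k)).1 ?_
  change k.appTop (qO.appTop (uval w)) = k.appTop (m.appTop (uval a))
  rw [← ConcreteCategory.comp_apply, ← Scheme.Hom.comp_appTop, hkq, ← ConcreteCategory.comp_apply,
    ← Scheme.Hom.comp_appTop, hkm]
  apply (ConcreteCategory.bijective_of_isIso i.hom).1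
  refine Eq.trans ?_ (show V.left.presheaf.germ O v hvO b₀ = i.hom (r.appTop (uval a)) from hb₀)
  show i.hom ((O.fromSpecStalkOfMem v hvO).appTop (O.topIso.inv b₀)) = _
  exact ConcreteCategory.congr_hom (appTop_fromSpecStalkOfMem O v hvO) b₀
where
  isOI_ι' {S : Scheme.{u}} (O : S.Opens) : IsOpenImmersion O.ι := inferInstance

end Groth.Agent.Dix2
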