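import Groth.Agent.Dix2.SkyTorsion
import Groth.Agent.EtPic91.H1Gm
import Groth.Agent.EtSupp91.TateLocal
import Groth.Agent.Henz21.EtAcyc.LerayTrunc
import Groth.Agent.Unr55.Et.Stalk

/-! The higher direct image of the multiplicative group from the spectrum of a field. -/

set_option autoImplicit false
set_option linter.style.haveILetI false
set_option backward.isDefEq.respectTransparency.types false
universe u

open CategoryTheory CategoryTheory.Limits CategoryTheory.Abelian AlgebraicGeometry Opposite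
open Groth.Agent.Unr55.EtSh

namespace Groth.Agent.Dix2

variable {K : Type u} [Field K]

theorem subsingleton_H1_pull_Gm (A : CommRingCat.{u}) (j : Spec A ⟶ Spec (CommRingCat.of K)) [Etale j] :
    Subsingleton (EtCoh.H (Spec A) ((EtCoh.pull j).obj (EtCoh.Gm (Spec (CommRingCat.of K)))) 1) := by
  haveI : IsFinite (Spec.map (Spec.preimage j)) := by
    rw [Spec.map_preimage]; exact isFinite_of_etale j
  have hfin := (IsFinite.SpecMap_iff (Spec.preimage j)).1 inferInstance
  letI : Algebra K A := (Spec.preimage j).hom.toAlgebra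
  haveI : Module.Finite K A := hfin
  haveI : IsArtinianRing A := IsArtinianRing.of_finite K A
  haveI := EtPic91.H1_Gm_subsingleton A
  let e : (EtCoh.pull j).obj (EtCoh.Gm (Spec (CommRingCat.of K))) ≅ EtCoh.Gm (Spec A) :=
    (EtCore45.pullRestrIso j).app _ ≪≫ EtSupp91.restrGmIso j
  haveI : Subsingleton ↑((EtCoh.HF (Spec A) 1).obj (EtCoh.Gm (Spec A))) :=
    inferInstanceAs (Subsingleton (EtCoh.H (Spec A) (EtCoh.Gm (Spec A)) 1))
  exact (((EtCoh.HF (Spec A) 1).mapIso e).addCommGroupIsoToAddEquiv).toEquiv.subsingleton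

theorem isZero_Rpush_one_Gm {X : Scheme.{u}} (f : Spec (CommRingCat.of K) ⟶ X) [QuasiCompact f] [QuasiSeparated f] :
    IsZero ((EtCoh.Rpush f 1).obj (EtCoh.Gm (Spec (CommRingCat.of K)))) := by
  haveI : PreservesLimitsOfSize.{0, 0} (EtCoh.push f) := (EtCoh.pullPushAdj f).rightAdjoint_preservesLimits
  haveI : PreservesFiniteLimits (EtCoh.push f) := PreservesLimitsOfSize.preservesFiniteLimits _
  let F := EtCoh.Gm (Spec (CommRingCat.of K))
  let S := EtCore45.injSeq F
  have hS : S.ShortExact := EtCore45.injSeq_shortExact F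
  haveI : Injective S.X₂ := inferInstanceAs (Injective (Injective.under F))
  have hepi : Epi ((EtCoh.push f).map S.g) := epi_of_stalks _ fun L _ _ η a => by
    obtain ⟨V, hV, t, σ, rfl⟩ := Cons51.exists_germ_affine η _ a
    obtain ⟨h1, h2⟩ := Cons51.bc_qcqs f V
    let W := (EtCoh.bc f).obj V
    haveI : Etale W.hom := W.prop
    haveI : CompactSpace ↥((𝟭 Scheme).obj W.left) := h1
    haveI : IsFinite W.hom := isFinite_of_etale W.hom
    haveI : IsAffine ((Functor.fromPUnit (Spec (CommRingCat.of K))).obj W.right) :=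
      inferInstanceAs (IsAffine (Spec (CommRingCat.of K)))
    haveI : IsAffine W.left := isAffine_of_isAffineHom W.hom
    let W' : (Spec (CommRingCat.of K)).Etale :=
      MorphismProperty.Over.mk ⊤ (W.left.isoSpec.inv ≫ W.hom) (inferInstanceAs (Etale (W.left.isoSpec.inv ≫ W.hom)))
    let i : W ≅ W' := MorphismProperty.Over.isoMk W.left.isoSpec (W.left.isoSpec.hom_inv_id_assoc W.hom)
    let j : Spec Γ(W.left, ⊤) ⟶ Spec (CommRingCat.of K) := W.left.isoSpec.inv ≫ W.hom
    haveI : Etale j := inferInstanceAs (Etale (W.left.isoSpec.inv ≫ W.hom))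
    obtain ⟨τ, hτ⟩ := EtCore45.sections_surjective hS W'
      (subsingleton_H1_pull_Gm _ j) (S.X₃.obj.map i.inv.op σ)
    refine ⟨germ η ((EtCoh.push f).obj S.X₂) t (S.X₂.obj.map i.hom.op τ), ?_⟩
    rw [stalk_map_germ]
    refine congrArg (germ η _ t) ?_
    show S.g.hom.app (op W) (S.X₂.obj.map i.hom.op τ) = σ
    rw [NatTrans.naturality_apply, hτ, ← ConcreteCategory.comp_apply, ← Functor.map_comp, ← op_comp,
      i.hom_inv_id, op_id, CategoryTheory.Functor.map_id]
    rfl
  obtain ⟨Δ⟩ := RD97.nonempty_derivedLES (EtCoh.push f)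
  have hz := (EtCoh.push f).isZero_rightDerived_obj_injective_succ 0 S.X₂
  haveI he : Epi (((EtCoh.push f).rightDerived 0).map S.g) := by
    have hn := (EtCoh.push f).rightDerivedZeroIsoSelf.hom.naturality S.g
    rw [← cancel_mono ((EtCoh.push f).rightDerivedZeroIsoSelf.inv.app S.X₃), Category.assoc,
      Iso.hom_inv_id_app, Category.comp_id] at hn
    rw [hn]
    infer_instance
  refine (Δ.exact₁ S hS 0 1 rfl).isZero_X₂ ?_ (hz.eq_of_tgt _ _)
  rw [← cancel_epi (((EtCoh.push f).rightDerived 0).map S.g), comp_zero]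
  exact Δ.comp_δ S hS 0 1 rfl

theorem injective_HofPush_two_Gm {X : Scheme.{u}} (f : Spec (CommRingCat.of K) ⟶ X) [QuasiCompact f]
    [QuasiSeparated f] [PreservesFiniteLimits (EtCoh.pull f)] :
    Function.Injective (EtLim.HofPush f (EtCoh.Gm (Spec (CommRingCat.of K))) 2) :=
  (Henz21.EtAcycComp.adjTransfer_bijective_trunc (EtCoh.pullPushAdj f) (EtCore.pullConst f ℤ).inv 1 _
    fun q h1 h2 => by
      obtain rfl : q = 1 := le_antisymm h2 h1
      exact isZero_Rpush_one_Gm f).2

end Groth.Agent.Dix2
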