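import Groth.Agent.Dix2.SkyTorsion
import Groth.Agent.GalCoh84.Const
import Groth.Agent.EtLA91.ConstTorsion
import Groth.Agent.EtCore45.ConstSect
import Groth.Agent.EtCore45.MVSect

/-! First cohomology of direct images from the spectrum of a field. -/

set_option autoImplicit false
set_option linter.style.haveILetI false
set_option backward.isDefEq.respectTransparency.types false
universe u

open CategoryTheory CategoryTheory.Limits CategoryTheory.Abelian AlgebraicGeometry Opposite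
open Groth.Agent.Unr55.EtSh Groth.Agent.EtLA91 Groth.Agent.LocConst45

namespace Groth.Agent.Dix2

variable {K : Type u} [Field K]

theorem subsingleton_H1_push {X : Scheme.{u}} (f : Spec (CommRingCat.of K) ⟶ X)
    (F : EtCoh.Ab (Spec (CommRingCat.of K))) (h : Subsingleton (EtCoh.H (Spec (CommRingCat.of K)) F 1)) :
    Subsingleton (EtCoh.H X ((EtCoh.push f).obj F) 1) := by
  haveI : PreservesLimitsOfSize.{0, 0} (EtCoh.push f) := (EtCoh.pullPushAdj f).rightAdjoint_preservesLimits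
  haveI : PreservesFiniteLimits (EtCoh.push f) := PreservesLimitsOfSize.preservesFiniteLimits _
  haveI := preservesFiniteLimits_pull f
  let S := EtCore45.injSeq F
  have hS : S.ShortExact := EtCore45.injSeq_shortExact F
  haveI : Injective S.X₂ := inferInstanceAs (Injective (Injective.under F))
  haveI : Injective ((EtCoh.push f).obj S.X₂) := Injective.injective_of_adjoint (EtCoh.pullPushAdj f) _
  haveI := hS.mono_f
  obtain ⟨hex, -⟩ := (Functor.preservesFiniteLimits_iff_forall_exact_map_and_mono (EtCoh.push f)).1 inferInstance S hS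
  let S1 := ShortComplex.mk ((EtCoh.push f).map S.f) (cokernel.π _) (cokernel.condition _)
  have hS1 : S1.ShortExact := { exact := ShortComplex.exact_of_g_is_cokernel S1 (cokernelIsCokernel _) }
  let c : S1.X₃ ⟶ (EtCoh.push f).obj S.X₃ := cokernel.desc _ ((EtCoh.push f).map S.g) (by
    rw [← Functor.map_comp, S.zero, Functor.map_zero])
  haveI : Mono c := (ShortComplex.exact_iff_mono_cokernel_desc (S.map (EtCoh.push f))).1 hex
  refine subsingleton_of_forall_eq 0 fun x => ?_
  obtain ⟨y, rfl⟩ := Ext.covariant_sequence_exact₁ _ hS1 x (Ext.eq_zero_of_injective _) (zero_add 1)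
  obtain ⟨φ, rfl⟩ := Ext.addEquiv₀.symm.surjective y
  let φ' : EtCoh.const (Spec (CommRingCat.of K)) ℤ ⟶ S.X₃ :=
    (EtCore.pullConst f ℤ).inv ≫ ((EtCoh.pullPushAdj f).homEquiv _ _).symm (φ ≫ c)
  have h0 : (Ext.mk₀ φ').comp hS.extClass (zero_add 1) = 0 := h.elim _ _
  obtain ⟨z, hz⟩ := Ext.covariant_sequence_exact₃ _ hS (Ext.mk₀ φ') (zero_add 1) h0
  obtain ⟨ψ, rfl⟩ := (Ext.mk₀_bijective _ _).2 z
  have hψ : ψ ≫ S.g = φ' := (Ext.mk₀_bijective _ _).1 ((Ext.mk₀_comp_mk₀ ψ _).symm.trans hz)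
  let ψ' := (EtCoh.pullPushAdj f).homEquiv _ _ ((EtCore.pullConst f ℤ).hom ≫ ψ)
  have h1 : ψ' ≫ (EtCoh.push f).map S.g = φ ≫ c := by
    rw [← Adjunction.homEquiv_naturality_right, Category.assoc, hψ]
    simp only [φ', Iso.hom_inv_id_assoc, Equiv.apply_symm_apply]
  have h2 : ψ' ≫ cokernel.π ((EtCoh.push f).map S.f) = φ := by
    rw [← cancel_mono c, Category.assoc]
    simp only [c, cokernel.π_desc]
    exact h1
  show (Ext.mk₀ φ).comp hS1.extClass (zero_add 1) = 0
  rw [← h2, ← Ext.mk₀_comp_mk₀, Ext.comp_assoc _ _ _ (add_zero 0) (zero_add 1) (by omega), hS1.comp_extClass,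
    Ext.comp_zero]

theorem exists_map_eq {X : Scheme.{u}} [IrreducibleSpace X] (M : AddCommGrpCat.{u + 1})
    (φ : EtCoh.const X ℤ ⟶ (Cst X).obj M) : ∃ k : intU.{u} ⟶ M, (Cst X).map k = φ := by
  haveI : IrreducibleSpace (EtCoh.top X).left := ‹IrreducibleSpace X›
  obtain ⟨m, hm⟩ := EtCore45.constσ_surjective_of_irreducible M (EtCoh.top X) (EtCore45.MV.oneSect φ)
  let k : intU.{u} ⟶ M :=
    AddCommGrpCat.ofHom ((zmultiplesHom M m).comp AddEquiv.ulift.toAddMonoidHom)
  refine ⟨k, (EtCore45.MV.oneSect_bijective _).1 ?_⟩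
  have h := EtCore45.MV.oneSect_comp (Y := X) (𝟙 ((Cst X).obj intU)) ((Cst X).map k)
  rw [Category.id_comp] at h
  have e : EtCore45.MV.oneSect ((Cst X).map k) = constσ M (EtCoh.top X) (k (ULift.up (1 : ℤ))) := by
    rw [h, ← constσ_natural k (EtCoh.top X)]
    congr 1
  exact e.trans ((congrArg (constσ M (EtCoh.top X)) (one_zsmul m)).trans hm)

theorem subsingleton_H1_const_field (M : Type) [AddCommGroup M] [IsAddTorsionFree M] :
    Subsingleton (EtCoh.H (Spec (CommRingCat.of K)) (EtCoh.const (Spec (CommRingCat.of K)) M) 1) := by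
  refine subsingleton_of_forall_eq 0 fun α => ?_
  obtain ⟨N, hN, h0⟩ := isOfFinAddOrder_iff_nsmul_eq_zero.1 (GalCoh84.isOfFinAddOrder_H zero_lt_one α)
  let A := AddCommGrpCat.of (ULift.{u + 1} M)
  let S := ShortComplex.mk (N • 𝟙 A) (cokernel.π _) (cokernel.condition _)
  have hm : Mono S.f := (AddCommGrpCat.mono_iff_injective _).2 fun a b hab =>
    ULift.ext _ _ (nsmul_right_injective hN.ne' (congrArg ULift.down (show N • a = N • b from hab)))
  have hS : S.ShortExact := { exact := ShortComplex.exact_of_g_is_cokernel S (cokernelIsCokernel _) }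
  have hT := GalCoh84.map_const_shortExact (Spec (CommRingCat.of K)) hS
  have h1 : α.comp (Ext.mk₀ ((Cst (Spec (CommRingCat.of K))).map S.f)) (add_zero 1) = 0 := by
    rw [show (Cst (Spec (CommRingCat.of K))).map S.f = N • 𝟙 (EtCoh.const (Spec (CommRingCat.of K)) M) from
      ((Cst _).map_nsmul).trans (congrArg (N • ·) ((Cst _).map_id A)), GalCoh84.mk₀_nsmul]
    exact (map_nsmul ((Ext.bilinearComp _ _ _ 1 0 1 (add_zero 1)) α) N _).trans
      ((congrArg (N • ·) (Ext.comp_mk₀_id α)).trans h0)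
  obtain ⟨y, rfl⟩ := Ext.covariant_sequence_exact₁ _ hT α h1 (zero_add 1)
  obtain ⟨φ, rfl⟩ := (Ext.mk₀_bijective _ _).2 y
  obtain ⟨k, rfl⟩ := exists_map_eq S.X₃ φ
  obtain ⟨m, hm'⟩ := (AddCommGrpCat.epi_iff_surjective S.g).1 hS.epi_g (k (ULift.up 1))
  let k' : intU.{u} ⟶ A :=
    AddCommGrpCat.ofHom ((zmultiplesHom A m).comp AddEquiv.ulift.toAddMonoidHom)
  have hk : k' ≫ S.g = k := by
    refine ConcreteCategory.hom_ext _ _ fun ⟨z⟩ => ?_
    show S.g (z • m) = k ⟨z⟩
    rw [map_zsmul, hm', ← map_zsmul]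
    congr 1
    exact ULift.ext _ _ (by simp)
  have e : (Cst (Spec (CommRingCat.of K))).map k = (Cst _).map k' ≫ (S.map (Cst _)).g := by
    rw [← hk]
    exact (Cst _).map_comp _ _
  refine (congrArg (fun z => Ext.comp (Ext.mk₀ z) hT.extClass (zero_add 1)) e).trans ?_
  rw [← Ext.mk₀_comp_mk₀, Ext.comp_assoc _ _ _ (add_zero 0) (zero_add 1) (by omega)]
  exact (congrArg (fun z => Ext.comp (Ext.mk₀ _) z (zero_add 1)) hT.comp_extClass).trans (Ext.comp_zero ..)

end Groth.Agent.Dix2
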