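import Mathlib
import Groth.Agent.Azu26.Basic
import Groth.Agent.Dix93.Local

/-!
# An Azumaya algebra over a maximal étale subalgebra
-/

set_option autoImplicit false
set_option linter.style.haveILetI false

universe u

open TensorProduct MulOpposite

namespace Groth.Agent.Dix2

/-- Left multiplication as endomorphisms of the right module. -/
def leftMul {R E A : Type u} [CommRing R] [CommRing E] [Ring A] [Algebra R E] [Algebra R A]
    [Module E A] [IsScalarTower R E A] [SMulCommClass E A A] : A →ₐ[R] Module.End E A where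
  toFun a :=
    { toFun := fun y => a * y
      map_add' := mul_add a
      map_smul' := fun e y => mul_smul_comm e a y }
  map_one' := LinearMap.ext fun y => one_mul y
  map_mul' a b := LinearMap.ext fun y => mul_assoc a b y
  map_zero' := LinearMap.ext fun y => zero_mul y
  map_add' a b := LinearMap.ext fun y => add_mul a b y
  commutes' c := LinearMap.ext fun y => (Algebra.smul_def c y).symm

section Field

variable {k E A : Type u} [Field k] [CommRing E] [Algebra k E] [Algebra.Etale k E] [Module.Finite k E]
  [Ring A] [Algebra k A] [IsAzumaya k A]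

theorem free_of_field (u : E →ₐ[k] A) (hu : Function.Injective u) [Module E A]
    (hmod : ∀ (e : E) (a : A), e • a = a * u e) (r : ℕ) (hA : Module.finrank k A = r ^ 2)
    (hE : Module.finrank k E = r) : Module.Free E A ∧ Module.finrank E A = r := by
  classical
  haveI : IsScalarTower k E A := ⟨fun c l a => by rw [hmod, hmod, map_smul, mul_smul_comm]⟩
  haveI : SMulCommClass E A A := ⟨fun e a b => by rw [smul_eq_mul, smul_eq_mul, hmod, hmod, mul_assoc]⟩
  haveI : Module.Finite E A := Module.Finite.of_restrictScalars_finite k E A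
  haveI : IsArtinianRing E := IsArtinianRing.of_finite k E
  haveI : IsReduced E := Algebra.FormallyUnramified.isReduced_of_field k E
  haveI : Nontrivial A := Azu26.nontrivial_of_field k A
  haveI : Nontrivial E := u.toRingHom.domain_nontrivial
  letI := fun P : MaximalSpectrum E => Ideal.Quotient.field P.asIdeal
  let W : MaximalSpectrum E → Type u := fun P => (E ⧸ P.asIdeal) ⊗[E] A
  have hW : ∀ P : MaximalSpectrum E, Nontrivial ((E ⧸ P.asIdeal) ⊗[E] A) := fun P => by
    by_contra h
    rw [not_nontrivial_iff_subsingleton] at h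
    have h1 : P.asIdeal • (⊤ : Submodule E A) = ⊤ := by
      have : Subsingleton (A ⧸ P.asIdeal • (⊤ : Submodule E A)) :=
        (TensorProduct.quotTensorEquivQuotSMul A P.asIdeal).symm.subsingleton
      exact Submodule.Quotient.subsingleton_iff.1 this
    obtain ⟨r₀, hr1, hr2⟩ := Submodule.exists_sub_one_mem_and_smul_eq_zero_of_fg_of_le_smul P.asIdeal
      (⊤ : Submodule E A) Module.Finite.fg_top h1.ge
    have h3 : u r₀ = 0 := by
      have := hr2 (1 : A) trivial
      rwa [hmod, one_mul] at this
    have h4 : r₀ = 0 := hu (h3.trans (map_zero u).symm)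
    rw [h4, zero_sub] at hr1
    exact P.isMaximal.ne_top ((Ideal.eq_top_iff_one _).2 (by simpa using P.asIdeal.neg_mem hr1))
  have hge : ∀ P : MaximalSpectrum E, r ≤ Module.finrank (E ⧸ P.asIdeal) ((E ⧸ P.asIdeal) ⊗[E] A) := fun P => by
    haveI := hW P
    let F := E ⧸ P.asIdeal
    haveI := Azu26.isAzumaya_baseChange k F A
    haveI := Azu26.isSimpleRing_of_field F (F ⊗[k] A)
    let g : A →ₐ[k] Module.End F (F ⊗[E] A) :=
      ((Module.End.baseChangeHom E F A).restrictScalars k).comp leftMul
    let φ : F ⊗[k] A →ₐ[F] Module.End F (F ⊗[E] A) :=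
      Algebra.TensorProduct.lift (Algebra.ofId F _) g fun l a => Algebra.commutes l (g a)
    have hinj : Function.Injective φ := RingHom.injective φ.toRingHom
    have h1 := LinearMap.finrank_le_finrank_of_injective (f := φ.toLinearMap) hinj
    rw [Module.finrank_baseChange, hA, Module.finrank_linearMap, ← sq] at h1
    exact Nat.pow_le_pow_iff_left two_ne_zero |>.1 h1
  haveI : Fintype (MaximalSpectrum E) := Fintype.ofFinite _
  haveI : ∀ P : MaximalSpectrum E, Module.Finite k ((E ⧸ P.asIdeal) ⊗[E] A) := fun P =>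
    Module.Finite.trans (E ⧸ P.asIdeal) _
  let e1 : A ≃ₗ[k] ∀ P : MaximalSpectrum E, (E ⧸ P.asIdeal) ⊗[E] A :=
    ((TensorProduct.lid E A).symm ≪≫ₗ
      TensorProduct.congr (IsArtinianRing.equivPi E).toLinearEquiv (LinearEquiv.refl E A) ≪≫ₗ
      TensorProduct.piLeft E A (fun P : MaximalSpectrum E => E ⧸ P.asIdeal)).restrictScalars k
  let e2 : E ≃ₗ[k] ∀ P : MaximalSpectrum E, E ⧸ P.asIdeal :=
    (IsArtinianRing.equivPi E).toLinearEquiv.restrictScalars k
  have hsum : ∑ P : MaximalSpectrum E,
      Module.finrank k (E ⧸ P.asIdeal) * Module.finrank (E ⧸ P.asIdeal) ((E ⧸ P.asIdeal) ⊗[E] A) = r ^ 2 := by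
    rw [← hA, e1.finrank_eq, Module.finrank_pi_fintype]
    exact Finset.sum_congr rfl fun P _ => Module.finrank_mul_finrank _ _ _
  have hsum' : ∑ P : MaximalSpectrum E, Module.finrank k (E ⧸ P.asIdeal) = r := by
    rw [← hE, e2.finrank_eq, Module.finrank_pi_fintype]
  have heq : ∀ P : MaximalSpectrum E, Module.finrank (E ⧸ P.asIdeal) ((E ⧸ P.asIdeal) ⊗[E] A) = r := by
    intro P
    refine le_antisymm ?_ (hge P)
    by_contra hlt
    rw [not_le] at hlt
    have : ∑ Q : MaximalSpectrum E, Module.finrank k (E ⧸ Q.asIdeal) * r <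
        ∑ Q : MaximalSpectrum E,
          Module.finrank k (E ⧸ Q.asIdeal) * Module.finrank (E ⧸ Q.asIdeal) ((E ⧸ Q.asIdeal) ⊗[E] A) := by
      refine Finset.sum_lt_sum (fun Q _ => Nat.mul_le_mul_left _ (hge Q)) ⟨P, Finset.mem_univ P, ?_⟩
      exact Nat.mul_lt_mul_of_pos_left hlt Module.finrank_pos
    rw [hsum, ← Finset.sum_mul, hsum', sq] at this
    exact lt_irrefl _ this
  haveI : IsSemisimpleRing E := IsArtinianRing.isSemisimpleRing_of_isReduced E
  haveI : Module.Projective E A := Module.projective_of_isSemisimpleRing E A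
  haveI := Module.free_of_flat_of_finrank_eq (R := E) (M := A) r heq
  obtain ⟨P⟩ : Nonempty (MaximalSpectrum E) := inferInstance
  exact ⟨inferInstance, by rw [← heq P, Module.finrank_baseChange]⟩

end Field

section Local

variable {R E A : Type u} [CommRing R] [IsLocalRing R] [CommRing E] [Algebra R E] [Algebra.Etale R E]
  [Module.Finite R E] [Module.Free R E] [Ring A] [Algebra R A] [IsAzumaya R A]

local notation "κ" => IsLocalRing.ResidueField R

theorem split_of_local (u : E →ₐ[R] A) (hu : Function.Injective (u.toLinearMap.lTensor κ)) [Module E A]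
    (hmod : ∀ (e : E) (a : A), e • a = a * u e) (r : ℕ) (hA : Module.finrank R A = r ^ 2)
    (hE : Module.finrank R E = r) :
    Module.Free E A ∧ Module.finrank E A = r ∧ Nonempty ((E ⊗[R] A) ≃ₐ[E] Module.End E A) := by
  classical
  obtain ⟨hfree, -, -, -, -⟩ := Dix93.residual_spec (R := R) (A := A)
  haveI := hfree
  haveI : IsScalarTower R E A := ⟨fun c l a => by rw [hmod, hmod, map_smul, mul_smul_comm]⟩
  haveI : SMulCommClass E A A := ⟨fun e a b => by rw [smul_eq_mul, smul_eq_mul, hmod, hmod, mul_assoc]⟩
  haveI : SMulCommClass E R A := ⟨fun e c a => by rw [hmod, hmod, smul_mul_assoc]⟩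
  -- the special fibre
  let Eb := κ ⊗[R] E
  let Ab := κ ⊗[R] A
  let ub : Eb →ₐ[κ] Ab := Algebra.TensorProduct.map (AlgHom.id κ κ) u
  have hub : Function.Injective ub := hu
  haveI : IsAzumaya κ Ab := Azu26.isAzumaya_baseChange R κ A
  letI : Module Eb Ab :=
    { smul := fun e a => a * ub e
      one_smul := fun a => by show a * ub 1 = a; rw [map_one, mul_one]
      mul_smul := fun e e' a => by show a * ub (e * e') = a * ub e' * ub e; rw [mul_comm e e', map_mul, mul_assoc]
      smul_zero := fun e => zero_mul _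
      smul_add := fun e a b => add_mul a b _
      add_smul := fun e e' a => by show a * ub (e + e') = a * ub e + a * ub e'; rw [map_add, mul_add]
      zero_smul := fun a => by show a * ub 0 = 0; rw [map_zero, mul_zero] }
  obtain ⟨hfb, hrb⟩ := free_of_field ub hub (fun _ _ => rfl) r
    (by rw [Module.finrank_baseChange, hA]) (by rw [Module.finrank_baseChange, hE])
  haveI := hfb
  haveI : IsScalarTower κ Eb Ab := ⟨fun c l a => by
    show a * ub (c • l) = c • (a * ub l)
    rw [map_smul, mul_smul_comm]⟩
  haveI : Module.Finite Eb Ab := Module.Finite.of_restrictScalars_finite κ Eb Ab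
  haveI : Nontrivial Ab := Azu26.nontrivial_of_field κ Ab
  haveI : Nontrivial Eb := ub.toRingHom.domain_nontrivial
  let bb : Module.Basis (Fin r) Eb Ab := Module.finBasisOfFinrankEq Eb Ab hrb
  choose a ha using fun i => TensorProduct.mk_surjective R A κ Ideal.Quotient.mk_surjective (bb i)
  let f : (Fin r → E) →ₗ[E] A := Fintype.linearCombination E a
  let fR := f.restrictScalars R
  have hsurj : Function.Surjective (fR.lTensor κ) := fun z => by
    rw [← bb.sum_repr z]
    suffices ∀ (i : Fin r) (c : Eb), c • bb i ∈ LinearMap.range (fR.lTensor κ) from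
      Submodule.sum_mem _ fun i _ => this i _
    intro i c
    induction c using TensorProduct.induction_on with
    | zero => rw [zero_smul]; exact zero_mem _
    | add x y hx hy => rw [add_smul]; exact add_mem hx hy
    | tmul x e =>
      refine ⟨x ⊗ₜ[R] Pi.single i e, ?_⟩
      show x ⊗ₜ[R] f (Pi.single i e) = bb i * ub (x ⊗ₜ[R] e)
      rw [← ha]
      have h1 : f (Pi.single i e) = a i * u e := by
        simp [f, Fintype.linearCombination_apply_single, hmod]
      rw [h1]
      show x ⊗ₜ[R] (a i * u e) = (1 : κ) ⊗ₜ[R] a i * (x ⊗ₜ[R] u e)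
      rw [Algebra.TensorProduct.tmul_mul_tmul, one_mul]
  have hfsurj : Function.Surjective fR := by
    rw [← LinearMap.range_eq_top, ← IsLocalRing.map_tensorProduct_mk_eq_top, eq_top_iff]
    intro z hz; clear hz
    obtain ⟨w, rfl⟩ := hsurj z
    induction w using TensorProduct.induction_on with
    | zero => rw [map_zero]; exact zero_mem _
    | add x y hx hy => rw [map_add]; exact add_mem hx hy
    | tmul x p =>
      obtain ⟨c, rfl⟩ := Ideal.Quotient.mk_surjective x
      refine ⟨c • fR p, Submodule.smul_mem _ _ ⟨p, rfl⟩, ?_⟩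
      show (1 : κ) ⊗ₜ[R] (c • fR p) = _
      rw [← TensorProduct.smul_tmul, LinearMap.lTensor_tmul]
      exact congrArg (· ⊗ₜ[R] fR p) (by rw [Algebra.smul_def, mul_one]; rfl)
  have hrkpi : Module.finrank R (Fin r → E) = Module.finrank R A := by
    rw [Module.finrank_pi_fintype, Finset.sum_const, Finset.card_univ, Fintype.card_fin, hE, hA, smul_eq_mul, sq]
  have hfbij : Function.Bijective f := by
    refine ⟨?_, hfsurj⟩
    let σ := LinearEquiv.ofFinrankEq A (Fin r → E) hrkpi.symm
    have h1 := OrzechProperty.injective_of_surjective_endomorphism (σ.toLinearMap ∘ₗ fR) (σ.surjective.comp hfsurj)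
    exact Function.Injective.of_comp (f := σ) h1
  let bA : Module.Basis (Fin r) E A := Module.Basis.ofEquivFun (LinearEquiv.ofBijective f hfbij).symm
  haveI : Module.Free E A := Module.Free.of_basis bA
  haveI : Nontrivial E := Module.nontrivial_of_finrank_pos (R := R) (by
    rcases Nat.eq_zero_or_pos r with hr | hr
    · exfalso
      haveI := Azu26.nontrivial_of_field κ Ab
      have : 0 < Module.finrank κ Ab := Module.finrank_pos
      rw [Module.finrank_baseChange, hA, hr] at this
      simp at this
    · rw [hE]; exact hr)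
  have hrE : Module.finrank E A = r := by rw [Module.finrank_eq_card_basis bA, Fintype.card_fin]
  refine ⟨inferInstance, hrE, ?_⟩
  let φ : E ⊗[R] A →ₐ[E] Module.End E A :=
    Algebra.TensorProduct.lift (Algebra.ofId E _) leftMul fun l x => Algebra.commutes l (leftMul x)
  let ψ : E ⊗[R] A →ₗ[R] A ⊗[R] Aᵐᵒᵖ :=
    ((opLinearEquiv R : A ≃ₗ[R] Aᵐᵒᵖ).toLinearMap ∘ₗ u.toLinearMap).lTensor A ∘ₗ
      (TensorProduct.comm R E A).toLinearMap
  have key : ∀ z x, AlgHom.mulLeftRight R A (ψ z) x = φ z x := fun z x => by
    induction z using TensorProduct.induction_on with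
    | zero => simp
    | add a b ha hb => simp only [map_add, LinearMap.add_apply, ha, hb]
    | tmul l y =>
      show AlgHom.mulLeftRight R A (y ⊗ₜ op (u l)) x = _
      rw [AlgHom.mulLeftRight_apply]
      simp only [φ, Algebra.TensorProduct.lift_tmul, Module.End.mul_apply]
      show y * x * u l = l • (y * x)
      rw [hmod]
  obtain ⟨π, hπ⟩ := (IsLocalRing.split_injective_iff_lTensor_residueField_injective u.toLinearMap).2 hu
  let M : A ⊗[R] Aᵐᵒᵖ ≃ₗ[R] Module.End R A :=
    LinearEquiv.ofBijective (AlgHom.mulLeftRight R A).toLinearMap IsAzumaya.bij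
  let ρ : Module.End E A →ₗ[R] E ⊗[R] A :=
    (TensorProduct.comm R E A).symm.toLinearMap ∘ₗ
      (π ∘ₗ (opLinearEquiv R : A ≃ₗ[R] Aᵐᵒᵖ).symm.toLinearMap).lTensor A ∘ₗ M.symm.toLinearMap ∘ₗ
      LinearMap.restrictScalarsₗ R E A A R
  have hρ : ∀ z, ρ (φ z) = z := fun z => by
    have h1 : (φ z).restrictScalars R = M (ψ z) := LinearMap.ext fun x => (key z x).symm
    show (TensorProduct.comm R E A).symm ((π ∘ₗ _).lTensor A (M.symm ((φ z).restrictScalars R))) = z
    rw [h1, M.symm_apply_apply]
    induction z using TensorProduct.induction_on with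
    | zero => simp
    | add a b ha hb =>
      have h2 : ∀ c, (φ c).restrictScalars R = M (ψ c) := fun c => LinearMap.ext fun x => (key c x).symm
      simp only [map_add, ha (h2 a), hb (h2 b)]
    | tmul l y =>
      show (TensorProduct.comm R E A).symm (y ⊗ₜ[R] (π (unop (op (u l))))) = _
      rw [unop_op, show π (u l) = l from LinearMap.congr_fun hπ l]
      rfl
  haveI : Module.Finite E A := Module.Finite.of_basis bA
  haveI : Module.Free E (Module.End E A) := inferInstance
  haveI : Module.Free R (Module.End E A) := Module.Free.trans (S := E)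
  haveI : Module.Finite E (Module.End E A) := inferInstance
  haveI : Module.Finite R (Module.End E A) := Module.Finite.trans E _
  have hrk : Module.finrank R (Module.End E A) = Module.finrank R (E ⊗[R] A) := by
    rw [← Module.finrank_mul_finrank R E (Module.End E A), Module.finrank_linearMap, hrE, hE,
      Module.finrank_tensorProduct, hE, hA, sq]
  let σ := LinearEquiv.ofFinrankEq (E ⊗[R] A) (Module.End E A) hrk.symm
  have hρs : Function.Surjective ρ := fun z => ⟨φ z, hρ z⟩
  have hρi : Function.Injective ρ := by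
    have h1 := OrzechProperty.injective_of_surjective_endomorphism (ρ ∘ₗ σ.toLinearMap) (hρs.comp σ.surjective)
    intro a b hab
    obtain ⟨a, rfl⟩ := σ.surjective a
    obtain ⟨b, rfl⟩ := σ.surjective b
    exact congrArg σ (h1 hab)
  exact ⟨AlgEquiv.ofBijective φ ⟨Function.LeftInverse.injective hρ,
    fun g => ⟨ρ g, hρi (hρ (ρ g))⟩⟩⟩

end Local

end Groth.Agent.Dix2
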