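import Groth.Agent.Dix2.Split

/-!
# Splitting over a free etale subalgebra, without locality
-/

set_option autoImplicit false
set_option linter.style.haveILetI false

universe u

open TensorProduct MulOpposite

namespace Groth.Agent.Dix2

variable {R E A : Type u} [CommRing R] [Nontrivial R] [CommRing E] [Algebra R E]
  [Module.Finite R E] [Module.Free R E] [Ring A] [Algebra R A] [IsAzumaya R A]

/-- If `A` is free of rank `r = rk E` as a right `E`-module, then `E` splits `A`. -/
theorem split_of_basis {r : ℕ} (hr : 0 < r) (hE : Module.finrank R E = r) (u : E →ₐ[R] A) [Module E A]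
    (hmod : ∀ (e : E) (a : A), e • a = a * u e) (bA : Module.Basis (Fin r) E A) :
    Nonempty ((E ⊗[R] A) ≃ₐ[E] Matrix (Fin r) (Fin r) E) := by
  classical
  haveI : Nontrivial E := Module.nontrivial_of_finrank_pos (R := R) (hE ▸ hr)
  haveI : IsScalarTower R E A := ⟨fun c l a => by rw [hmod, hmod, map_smul, mul_smul_comm]⟩
  haveI : SMulCommClass E A A := ⟨fun e a b => by rw [smul_eq_mul, smul_eq_mul, hmod, hmod, mul_assoc]⟩
  haveI : Module.Free E A := Module.Free.of_basis bA
  haveI : Module.Finite E A := Module.Finite.of_basis bA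
  haveI : Module.Free R A := Module.Free.trans (S := E)
  have hrE : Module.finrank E A = r := by rw [Module.finrank_eq_card_basis bA, Fintype.card_fin]
  have hA : Module.finrank R A = r ^ 2 := by rw [← Module.finrank_mul_finrank R E A, hE, hrE, sq]
  let c : Fin r → E := fun i => bA.repr 1 i
  have hc : ∀ (a : A) (j : Fin r), bA.repr a j ∈ Ideal.span (Set.range c) := fun a j => by
    have h1 : a = ∑ i, c i • (a * bA i) := by
      have h2 : ∀ i, c i • (a * bA i) = a * (c i • bA i) := fun i => (mul_smul_comm (c i) a (bA i)).symm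
      simp only [h2, ← Finset.mul_sum, c, bA.sum_repr, mul_one]
    rw [h1, map_sum, Finsupp.finsetSum_apply]
    refine Ideal.sum_mem _ fun i _ => ?_
    rw [map_smul, Finsupp.smul_apply, smul_eq_mul]
    exact Ideal.mul_mem_right _ _ (Ideal.subset_span ⟨i, rfl⟩)
  obtain ⟨y, hy⟩ := (Submodule.mem_span_range_iff_exists_fun E).1 (show (1 : E) ∈ Ideal.span (Set.range c) by
    simpa using hc (bA ⟨0, hr⟩) ⟨0, hr⟩)
  let θ : A →ₗ[E] E := ∑ i, y i • bA.coord i
  have hθ1 : θ 1 = 1 := by
    rw [← hy]
    simp [θ, c]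
  let π : A →ₗ[R] E := θ.restrictScalars R
  have hπ : ∀ e, π (u e) = e := fun e => by
    have h : u e = e • (1 : A) := by rw [hmod, one_mul]
    show θ (u e) = e
    rw [h, map_smul, hθ1, smul_eq_mul, mul_one]
  let φ : E ⊗[R] A →ₐ[E] Module.End E A :=
    Algebra.TensorProduct.lift (Algebra.ofId E _) leftMul fun l x => Algebra.commutes l (leftMul x)
  let ψ : E ⊗[R] A →ₗ[R] A ⊗[R] Aᵐᵒᵖ :=
    ((opLinearEquiv R : A ≃ₗ[R] Aᵐᵒᵖ).toLinearMap ∘ₗ u.toLinearMap).lTensor A ∘ₗ
      (TensorProduct.comm R E A).toLinearMap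
  have key : ∀ z x, AlgHom.mulLeftRight R A (ψ z) x = φ z x := fun z x => by
    induction z using TensorProduct.induction_on with
    | zero => simp
    | add a b ha hb => simp only [map_add, LinearMap.add_apply, ha, hb]
    | tmul l y =>
      show AlgHom.mulLeftRight R A (y ⊗ₜ op (u l)) x = _
      rw [AlgHom.mulLeftRight_apply]
      simp only [φ, Algebra.TensorProduct.lift_tmul, Module.End.mul_apply]
      show y * x * u l = l • (y * x)
      rw [hmod]
  let M : A ⊗[R] Aᵐᵒᵖ ≃ₗ[R] Module.End R A :=
    LinearEquiv.ofBijective (AlgHom.mulLeftRight R A).toLinearMap IsAzumaya.bij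
  let ρ : Module.End E A →ₗ[R] E ⊗[R] A :=
    (TensorProduct.comm R E A).symm.toLinearMap ∘ₗ
      (π ∘ₗ (opLinearEquiv R : A ≃ₗ[R] Aᵐᵒᵖ).symm.toLinearMap).lTensor A ∘ₗ M.symm.toLinearMap ∘ₗ
      LinearMap.restrictScalarsₗ R E A A R
  have hρ : ∀ z, ρ (φ z) = z := fun z => by
    have h1 : (φ z).restrictScalars R = M (ψ z) := LinearMap.ext fun x => (key z x).symm
    show (TensorProduct.comm R E A).symm ((π ∘ₗ _).lTensor A (M.symm ((φ z).restrictScalars R))) = z
    rw [h1, M.symm_apply_apply]
    induction z using TensorProduct.induction_on with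
    | zero => simp
    | add a b ha hb =>
      have h2 : ∀ c, (φ c).restrictScalars R = M (ψ c) := fun c => LinearMap.ext fun x => (key c x).symm
      simp only [map_add, ha (h2 a), hb (h2 b)]
    | tmul l x =>
      show (TensorProduct.comm R E A).symm (x ⊗ₜ[R] (π (unop (op (u l))))) = _
      rw [unop_op, hπ]
      rfl
  haveI : Module.Free E (Module.End E A) := inferInstance
  haveI : Module.Free R (Module.End E A) := Module.Free.trans (S := E)
  haveI : Module.Finite R (Module.End E A) := Module.Finite.trans E _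
  have hrk : Module.finrank R (Module.End E A) = Module.finrank R (E ⊗[R] A) := by
    rw [← Module.finrank_mul_finrank R E (Module.End E A), Module.finrank_linearMap, hrE, hE,
      Module.finrank_tensorProduct, hE, hA, sq]
  let σ := LinearEquiv.ofFinrankEq (E ⊗[R] A) (Module.End E A) hrk.symm
  have hρs : Function.Surjective ρ := fun z => ⟨φ z, hρ z⟩
  have hρi : Function.Injective ρ := by
    have h1 := OrzechProperty.injective_of_surjective_endomorphism (ρ ∘ₗ σ.toLinearMap) (hρs.comp σ.surjective)
    intro a b hab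
    obtain ⟨a, rfl⟩ := σ.surjective a
    obtain ⟨b, rfl⟩ := σ.surjective b
    exact congrArg σ (h1 hab)
  exact ⟨(AlgEquiv.ofBijective φ ⟨Function.LeftInverse.injective hρ,
    fun g => ⟨ρ g, hρi (hρ (ρ g))⟩⟩).trans (algEquivMatrix bA)⟩

end Groth.Agent.Dix2
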