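import Groth.Agent.Dix2.SplitGlobal
import Groth.Agent.Dix93.Local

/-!
# Splitting an Azumaya algebra near a prime by a finite etale cover
-/

set_option autoImplicit false
set_option linter.style.haveILetI false

universe u

open TensorProduct Polynomial

namespace Groth.Agent.Dix2

theorem exists_finrank_eq_sq (k A : Type u) [Field k] [Ring A] [Algebra k A] [IsAzumaya k A] :
    ∃ r : ℕ, 0 < r ∧ Module.finrank k A = r ^ 2 := by
  let K := AlgebraicClosure k
  haveI : IsAzumaya K (K ⊗[k] A) := Azu26.isAzumaya_baseChange k K A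
  haveI := Azu26.isSimpleRing_of_field K (K ⊗[k] A)
  obtain ⟨n, hn, ⟨e⟩⟩ := IsSimpleRing.exists_algEquiv_matrix_of_isAlgClosed K (K ⊗[k] A)
  refine ⟨n, Nat.pos_of_ne_zero hn.ne, ?_⟩
  rw [← Module.finrank_baseChange (R := K) (S := k) (M' := A), e.toLinearEquiv.finrank_eq,
    Module.finrank_matrix, Module.finrank_self, Fintype.card_fin, mul_one, sq]

theorem etale_adjoinRoot {S : Type u} [CommRing S] {P : S[X]} (hm : P.Monic) (q w : S[X])
    (h : derivative P * q + P * w = 1) : Algebra.Etale S (AdjoinRoot P) := by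
  let Q : StandardEtalePair S :=
    { f := P, monic_f := hm, g := 1, cond := ⟨q, w, 0, by rw [pow_zero]; exact h⟩ }
  have hone : IsUnit (AdjoinRoot.mk Q.f Q.g) := by simp [Q]
  let e : Localization.Away (AdjoinRoot.mk Q.f Q.g) ≃ₐ[AdjoinRoot Q.f] AdjoinRoot Q.f :=
    (IsLocalization.atUnits _ (Submonoid.powers (AdjoinRoot.mk Q.f Q.g)) (by
      rintro _ ⟨k, rfl⟩
      exact hone.pow k)).symm
  exact Algebra.Etale.of_equiv (Q.equivAwayAdjoinRoot.trans (e.restrictScalars S))

theorem exists_bezout {R : Type u} [CommRing R] (p : Ideal R) [p.IsPrime] {P : R[X]} (hm : P.Monic)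
    (hs : (P.map (algebraMap R p.ResidueField)).Separable) :
    ∃ d : R, d ∉ p ∧ ∃ q w : R[X], derivative P * q + P * w = C d := by
  haveI := hm.finite_adjoinRoot
  haveI : Algebra.IsIntegral R (AdjoinRoot P) := Algebra.IsIntegral.of_finite R _
  let I : Ideal (AdjoinRoot P) := Ideal.span {AdjoinRoot.mk P (derivative P)}
  by_cases hJ : I.comap (algebraMap R (AdjoinRoot P)) ≤ p
  · exfalso
    obtain ⟨Q, hIQ, hQ, hQp⟩ := Ideal.exists_ideal_over_prime_of_isIntegral p I hJ
    let θ := Ideal.ResidueField.map p Q (algebraMap R (AdjoinRoot P)) hQp.symm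
    let z : Q.ResidueField := algebraMap (AdjoinRoot P) Q.ResidueField (AdjoinRoot.root P)
    have hev : ∀ q : R[X], eval₂ θ z (q.map (algebraMap R p.ResidueField)) =
        algebraMap (AdjoinRoot P) Q.ResidueField (AdjoinRoot.mk P q) := fun q => by
      rw [eval₂_map, ← AdjoinRoot.aeval_eq, aeval_def, hom_eval₂]
      congr 1
      exact RingHom.ext fun a => Ideal.ResidueField.map_algebraMap p Q _ hQp.symm a
    refine Separable.eval₂_derivative_ne_zero θ hs (x := z) ?_ ?_
    · rw [hev, AdjoinRoot.mk_self, map_zero]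
    · rw [derivative_map, hev, Ideal.algebraMap_residueField_eq_zero]
      exact hIQ (Ideal.subset_span rfl)
  · obtain ⟨d, hd, hdp⟩ := SetLike.not_le_iff_exists.1 hJ
    obtain ⟨b, hb⟩ := Ideal.mem_span_singleton'.1 hd
    obtain ⟨q, rfl⟩ := AdjoinRoot.mk_surjective b
    obtain ⟨w, hw⟩ : P ∣ C d - derivative P * q := by
      rw [← AdjoinRoot.mk_eq_zero, map_sub, map_mul, AdjoinRoot.mk_C, mul_comm, hb, sub_eq_zero]
      rfl
    exact ⟨d, hdp, q, w, by linear_combination -hw⟩

/-- The morphism out of `AdjoinRoot P` given by a root in a possibly non-commutative algebra. -/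
noncomputable def rootHom {S : Type u} [CommRing S] (P : S[X]) {A : Type u} [Ring A] [Algebra S A]
    (x : A) (hx : aeval x P = 0) : AdjoinRoot P →ₐ[S] A :=
  Ideal.Quotient.liftₐ (Ideal.span {P}) (aeval x) fun a ha => by
    obtain ⟨b, rfl⟩ := Ideal.mem_span_singleton'.1 ha
    rw [map_mul, hx, mul_zero]

theorem rootHom_root {S : Type u} [CommRing S] (P : S[X]) {A : Type u} [Ring A] [Algebra S A]
    (x : A) (hx : aeval x P = 0) : rootHom P x hx (AdjoinRoot.root P) = x := by
  show aeval x X = x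
  exact aeval_X x

theorem rootHom_root_pow {S : Type u} [CommRing S] (P : S[X]) {A : Type u} [Ring A] [Algebra S A]
    (x : A) (hx : aeval x P = 0) (i : ℕ) : rootHom P x hx (AdjoinRoot.root P ^ i) = x ^ i := by
  rw [map_pow]
  congr 1
  show aeval x X = x
  exact aeval_X x

theorem map_bijective_congr {R : Type u} [CommRing R] (S : Submonoid R)
    {M N M' M'' N' N'' : Type u} [AddCommGroup M] [AddCommGroup N] [AddCommGroup M'] [AddCommGroup M'']
    [AddCommGroup N'] [AddCommGroup N''] [Module R M] [Module R N] [Module R M'] [Module R M'']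
    [Module R N'] [Module R N''] (f : M →ₗ[R] M') (f' : M →ₗ[R] M'') (g : N →ₗ[R] N') (g' : N →ₗ[R] N'')
    [IsLocalizedModule S f] [IsLocalizedModule S f'] [IsLocalizedModule S g] [IsLocalizedModule S g']
    (l : M →ₗ[R] N) (h : Function.Bijective (IsLocalizedModule.map S f g l)) :
    Function.Bijective (IsLocalizedModule.map S f' g' l) := by
  have he : IsLocalizedModule.map S f' g' l ∘ₗ (IsLocalizedModule.linearEquiv S f f').toLinearMap =
      (IsLocalizedModule.linearEquiv S g g').toLinearMap ∘ₗ IsLocalizedModule.map S f g l :=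
    IsLocalizedModule.ext S f (IsLocalizedModule.map_units g') (LinearMap.ext fun x => by simp)
  have h2 : ⇑(IsLocalizedModule.map S f' g' l) =
      (IsLocalizedModule.linearEquiv S g g') ∘ (IsLocalizedModule.map S f g l) ∘
        (IsLocalizedModule.linearEquiv S f f').symm := funext fun x => by
    have := LinearMap.congr_fun he ((IsLocalizedModule.linearEquiv S f f').symm x)
    simpa using this
  rw [h2]
  exact (IsLocalizedModule.linearEquiv S g g').bijective.comp
    (h.comp (IsLocalizedModule.linearEquiv S f f').symm.bijective)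

theorem adjoin_smul {k B : Type u} [Field k] [Ring B] [Algebra k B] {c : k} (hc : c ≠ 0) (x : B) :
    Algebra.adjoin k ({c • x} : Set B) = Algebra.adjoin k {x} := by
  refine le_antisymm (Algebra.adjoin_le ?_) (Algebra.adjoin_le ?_)
  · simpa using Subalgebra.smul_mem _ (Algebra.self_mem_adjoin_singleton k x) c
  · simpa [smul_smul, hc] using Subalgebra.smul_mem _ (Algebra.self_mem_adjoin_singleton k (c • x)) c⁻¹

theorem regular_smul {k B : Type u} [Field k] [Ring B] [Algebra k B] [FiniteDimensional k B] {c : k}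
    (hc : c ≠ 0) {x : B} (hs : (minpoly k x).Separable) :
    (minpoly k (c • x)).Separable ∧ (minpoly k (c • x)).natDegree = (minpoly k x).natDegree := by
  constructor
  · haveI : Algebra.IsSeparable k (Algebra.adjoin k ({c • x} : Set B)) := by
      rw [adjoin_smul hc]
      exact Dix93.isSeparable_adjoin_of_separable hs
    exact Dix93.separable_of_isSeparable_adjoin
  · rw [← Dix93.finrank_adjoin_singleton (IsIntegral.of_finite k _),
      ← Dix93.finrank_adjoin_singleton (IsIntegral.of_finite k x), adjoin_smul hc]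

/-- The evaluation at the products `a i * x ^ j`. -/
noncomputable def prodMap {R A : Type u} [CommRing R] [Ring A] [Algebra R A] {r : ℕ} (a : Fin r → A) (x : A) :
    (Fin r × Fin r → R) →ₗ[R] A :=
  Fintype.linearCombination R fun t => a t.1 * x ^ (t.2 : ℕ)

section Base

variable {R : Type u} [CommRing R] {A : Type u} [Ring A] [Algebra R A] (S : Type u) [CommRing S] [Algebra R S]

theorem exists_basis_prod (r : ℕ) (a : Fin r → A) (x : A)
    (h : Function.Bijective ((prodMap (R := R) a x).baseChange S)) :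
    ∃ b : Module.Basis (Fin r × Fin r) S (S ⊗[R] A),
      ∀ t, b t = ((1 : S) ⊗ₜ[R] a t.1) * ((1 : S) ⊗ₜ[R] x) ^ (t.2 : ℕ) := by
  classical
  refine ⟨((Pi.basisFun R (Fin r × Fin r)).baseChange S).map (LinearEquiv.ofBijective _ h), fun t => ?_⟩
  simp [prodMap, Fintype.linearCombination_apply, Pi.single_apply, Algebra.TensorProduct.tmul_pow]

end Base

theorem nonempty_cancel {R : Type u} [CommRing R] (S E A : Type u) [CommRing S] [CommRing E] [Algebra R S]
    [Algebra R E] [Algebra S E] [IsScalarTower R S E] [Ring A] [Algebra R A] :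
    Nonempty ((E ⊗[S] (S ⊗[R] A)) ≃ₐ[E] (E ⊗[R] A)) :=
  ⟨AlgEquiv.symm <| AlgEquiv.ofLinearEquiv
    (TensorProduct.AlgebraTensorModule.cancelBaseChange R S E E A).symm
    (by simp [Algebra.TensorProduct.one_def]) <|
      LinearMap.map_mul_of_map_mul_tmul (fun _ _ _ _ ↦ by simp)⟩

theorem exists_split_near {R : Type u} [CommRing R] (A : Type u) [Ring A] [Algebra R A] [IsAzumaya R A]
    (p : Ideal R) [p.IsPrime] :
    ∃ f : R, f ∉ p ∧ ∃ (R' : Type u) (_ : CommRing R') (_ : Algebra R R')
      (_ : Algebra (Localization.Away f) R') (_ : IsScalarTower R (Localization.Away f) R'),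
      Module.Finite (Localization.Away f) R' ∧ Algebra.Etale (Localization.Away f) R' ∧
        Module.FaithfullyFlat (Localization.Away f) R' ∧
        ∃ r : ℕ, 1 ≤ r ∧ Nonempty ((R' ⊗[R] A) ≃ₐ[R'] Matrix (Fin r) (Fin r) R') := by
  classical
  haveI : Module.FinitePresentation R A := Module.finitePresentation_of_projective R A
  let Rp := Localization.AtPrime p
  let Ap := Rp ⊗[R] A
  let κ := IsLocalRing.ResidueField Rp
  haveI : IsAzumaya Rp Ap := Azu26.isAzumaya_baseChange R Rp A
  obtain ⟨hfree, hcen, hsim, hfin, hrk⟩ := Dix93.residual_spec (R := Rp) (A := Ap)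
  haveI := hfree
  haveI : IsAzumaya κ (κ ⊗[Rp] Ap) := Azu26.isAzumaya_baseChange Rp κ Ap
  obtain ⟨r, hr, hr2⟩ := exists_finrank_eq_sq κ (κ ⊗[Rp] Ap)
  have hA : Module.finrank Rp Ap = r ^ 2 := hrk.symm.trans hr2
  -- a regular section with denominators cleared
  obtain ⟨xb, hxs, hxd⟩ := Dix93.exists_regular (A := κ ⊗[Rp] Ap) hr2
  obtain ⟨ξ, rfl⟩ := TensorProduct.mk_surjective Rp Ap κ Ideal.Quotient.mk_surjective xb
  obtain ⟨⟨a₀, s⟩, ha₀⟩ := IsLocalizedModule.surj p.primeCompl (TensorProduct.mk R Rp A 1) ξ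
  have hne : ∀ t : R, t ∉ p → algebraMap R κ t ≠ 0 := fun t ht h =>
    ht (Ideal.algebraMap_residueField_eq_zero.1 h)
  have hres : ∀ (t : R) (y : Ap), (1 : κ) ⊗ₜ[Rp] (t • y) = algebraMap R κ t • ((1 : κ) ⊗ₜ[Rp] y) := fun t y => by
    rw [← IsScalarTower.algebraMap_smul Rp t y, tmul_smul, ← IsScalarTower.algebraMap_smul κ (algebraMap R Rp t),
      ← IsScalarTower.algebraMap_apply]
  have hreg : ∀ t : R, t ∉ p →
      (minpoly κ ((1 : κ) ⊗ₜ[Rp] ((1 : Rp) ⊗ₜ[R] (t • a₀)))).Separable ∧
      (minpoly κ ((1 : κ) ⊗ₜ[Rp] ((1 : Rp) ⊗ₜ[R] (t • a₀)))).natDegree = r := fun t ht => by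
    have h1 : ((1 : Rp) ⊗ₜ[R] (t • a₀)) = (t * (s : R)) • ξ := by
      rw [mul_smul, tmul_smul]
      exact congrArg (t • ·) ha₀.symm
    rw [h1, hres]
    obtain ⟨h2, h3⟩ := regular_smul (hne _ (p.primeCompl.mul_mem ht s.2)) hxs
    exact ⟨h2, h3.trans hxd⟩
  obtain ⟨hs1, hd1⟩ := hreg 1 (p.primeCompl.one_mem)
  obtain ⟨c, hc⟩ := (Submodule.mem_span_range_iff_exists_fun Rp).1 (Dix93.pow_mem_powSpan hA hd1 hs1)
  obtain ⟨t, ht⟩ := IsLocalization.exist_integer_multiples_of_finite p.primeCompl c
  choose e he using ht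
  obtain ⟨hs, hd⟩ := hreg t t.2
  let a : A := (t : R) • a₀
  let ζ : Ap := (1 : Rp) ⊗ₜ[R] a
  let co : Fin r → R := fun i => (t : R) ^ (r - (i : ℕ) - 1) * e i
  let P : R[X] := X ^ r - ∑ i : Fin r, Polynomial.C (co i) * X ^ (i : ℕ)
  have hlt : (∑ i : Fin r, Polynomial.C (co i) * X ^ (i : ℕ)).degree < (r : WithBot ℕ) := degree_sum_fin_lt co
  have hm : P.Monic := monic_X_pow_sub hlt
  have hdeg : P.natDegree = r := by
    cases subsingleton_or_nontrivial R
    · exact absurd ((Subsingleton.elim (0 : R) 1) ▸ p.zero_mem) (p.primeCompl.one_mem)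
    refine natDegree_eq_of_degree_eq_some ?_
    rw [degree_sub_eq_left_of_degree_lt (by rwa [degree_X_pow]), degree_X_pow]
  have hPζ : aeval ζ P = 0 := by
    simp only [P, map_sub, map_pow, aeval_X, map_sum, map_mul, aeval_C]
    have hζ : ζ = (t : R) • ((1 : Rp) ⊗ₜ[R] ((1 : R) • a₀)) := by
      rw [one_smul, ← tmul_smul]
    rw [sub_eq_zero, hζ, _root_.smul_pow, ← hc, Finset.smul_sum]
    refine Finset.sum_congr rfl fun i _ => ?_
    rw [_root_.smul_pow, ← Algebra.smul_def, smul_smul, ← IsScalarTower.algebraMap_smul Rp,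
      ← IsScalarTower.algebraMap_smul Rp (co i * (t : R) ^ (i : ℕ)), smul_smul]
    congr 1
    have hei : algebraMap R Rp (e i) = algebraMap R Rp t * c i := by rw [he i, Algebra.smul_def]
    have hpow : (t : R) ^ r = (t : R) ^ (r - (i : ℕ) - 1) * (t : R) ^ (i : ℕ) * t := by
      rw [← pow_add, ← pow_succ]
      congr 1
      omega
    simp only [co, hpow, map_mul, hei]
    ring
  have hPbar : P.map (algebraMap R κ) = minpoly κ ((1 : κ) ⊗ₜ[Rp] ζ) := by
    refine (eq_of_monic_of_dvd_of_natDegree_le (minpoly.monic (IsIntegral.of_finite κ _)) (hm.map _)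
      (minpoly.dvd κ _ ?_) (by rw [hd, hm.natDegree_map (algebraMap R κ), hdeg]))
    rw [aeval_map_algebraMap]
    show aeval ((Algebra.TensorProduct.includeRight.restrictScalars R : Ap →ₐ[R] κ ⊗[Rp] Ap) ζ) P = 0
    rw [aeval_algHom_apply, hPζ, map_zero]
  obtain ⟨d, hdp, q, w, hqw⟩ := exists_bezout p hm (by rw [hPbar]; exact hs)
  obtain ⟨g₁, hg₁⟩ := (IsLocalizedModule.eq_zero_iff p.primeCompl (TensorProduct.mk R Rp A 1)).1
    (show TensorProduct.mk R Rp A 1 (aeval a P) = 0 by
      rw [← hPζ]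
      show Algebra.TensorProduct.includeRight (aeval a P) = _
      rw [← aeval_algHom_apply]
      rfl)
  -- the algebra over the local ring
  let Pp := P.map (algebraMap R Rp)
  let Ep := AdjoinRoot Pp
  haveI : Algebra.Etale Rp Ep := by
    obtain ⟨di, hdi⟩ := (IsLocalization.map_units Rp (⟨d, hdp⟩ : p.primeCompl)).exists_right_inv
    refine etale_adjoinRoot (hm.map _) (q.map (algebraMap R Rp) * C di) (w.map (algebraMap R Rp) * C di) ?_
    rw [derivative_map]
    have := congrArg (Polynomial.map (algebraMap R Rp)) hqw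
    simp only [Polynomial.map_add, Polynomial.map_mul, map_C] at this
    rw [← mul_assoc, ← mul_assoc, ← add_mul, this, ← map_mul, hdi, map_one]
  haveI := (hm.map (algebraMap R Rp)).finite_adjoinRoot
  haveI := (hm.map (algebraMap R Rp)).free_adjoinRoot
  let up : Ep →ₐ[Rp] Ap := rootHom Pp ζ (by rw [aeval_map_algebraMap]; exact hPζ)
  letI : Module Ep Ap := Module.compHom Ap ((RingHom.op up.toRingHom).comp (RingEquiv.toOpposite Ep).toRingHom)
  have hmodp : ∀ (x : Ep) (y : Ap), x • y = y * up x := fun _ _ => rfl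
  have hdegp : Pp.natDegree = r := by rw [hm.natDegree_map (algebraMap R Rp), hdeg]
  let pb : Module.Basis (Fin r) Rp Ep :=
    (AdjoinRoot.powerBasis' (hm.map (algebraMap R Rp))).basis.reindex (finCongr hdegp)
  have hpb : ∀ j, up (pb j) = ζ ^ (j : ℕ) := fun j => by
    rw [show pb j = AdjoinRoot.root Pp ^ (j : ℕ) by simp [pb, Pp]]
    exact rootHom_root_pow Pp ζ _ _
  have hinj : Function.Injective (up.toLinearMap.lTensor κ) := by
    let bk := pb.baseChange κ
    have hli : LinearIndependent κ fun i => up.toLinearMap.baseChange κ (bk i) := by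
      have : (fun i => up.toLinearMap.baseChange κ (bk i)) =
          fun i : Fin r => (1 : κ) ⊗ₜ[Rp] (ζ ^ (i : ℕ)) := by
        funext i
        simp [bk, hpb]
      rw [this]
      exact Dix93.residual_linearIndependent_pow hd
    rw [← LinearMap.baseChange_eq_ltensor]
    intro x y hxy
    apply bk.repr.injective
    have hcoef := fun z => congrArg (up.toLinearMap.baseChange κ) (bk.sum_repr z)
    simp only [map_sum, map_smul] at hcoef
    ext i
    exact sub_eq_zero.mp (Fintype.linearIndependent_iff.mp hli (fun i => bk.repr x i - bk.repr y i) (by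
      simp only [sub_smul, Finset.sum_sub_distrib, hcoef, hxy, sub_self]) i)
  have hEp : Module.finrank Rp Ep = r := by rw [Module.finrank_eq_card_basis pb, Fintype.card_fin]
  obtain ⟨hfreeE, hrkE, -⟩ := split_of_local up hinj hmodp r hA hEp
  haveI := hfreeE
  haveI : IsScalarTower Rp Ep Ap := ⟨fun c l y => by rw [hmodp, hmodp, map_smul, mul_smul_comm]⟩
  haveI : Module.Finite Ep Ap := Module.Finite.of_restrictScalars_finite Rp Ep Ap
  haveI : Nontrivial Ep := Module.nontrivial_of_finrank_pos (R := Rp) (hEp ▸ hr)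
  let bb := Module.finBasisOfFinrankEq Ep Ap hrkE
  choose ai hai using fun i => IsLocalizedModule.surj p.primeCompl (TensorProduct.mk R Rp A 1) (bb i)
  let wu : Fin r → Epˣ := fun i => Units.map (algebraMap Rp Ep : Rp →* Ep)
    (IsLocalization.map_units Rp (ai i).2).unit
  let bb' := bb.unitsSMul wu
  have hbb' : ∀ i, bb' i = (1 : Rp) ⊗ₜ[R] (ai i).1 := fun i => by
    rw [Module.Basis.unitsSMul_apply]
    show algebraMap Rp Ep (algebraMap R Rp (ai i).2) • bb i = _
    rw [IsScalarTower.algebraMap_smul, IsScalarTower.algebraMap_smul]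
    exact hai i
  let bAp : Module.Basis (Fin r × Fin r) Rp Ap := (pb.smulTower bb').reindex (Equiv.prodComm _ _)
  let Φ := prodMap (R := R) (fun i => (ai i).1) a
  have hΦp : Function.Bijective (IsLocalizedModule.map p.primeCompl
      (TensorProduct.mk R Rp (Fin r × Fin r → R) 1) (TensorProduct.mk R Rp A 1) Φ) := by
    have h1 : IsLocalizedModule.map p.primeCompl (TensorProduct.mk R Rp (Fin r × Fin r → R) 1)
        (TensorProduct.mk R Rp A 1) Φ = (Φ.baseChange Rp).restrictScalars R :=
      IsLocalizedModule.ext p.primeCompl (TensorProduct.mk R Rp (Fin r × Fin r → R) 1)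
        (IsLocalizedModule.map_units (TensorProduct.mk R Rp A 1))
        (by rw [IsLocalizedModule.map_comp]; ext; simp)
    rw [h1, LinearMap.coe_restrictScalars]
    have h2 : Φ.baseChange Rp =
        (((Pi.basisFun R (Fin r × Fin r)).baseChange Rp).equiv bAp (Equiv.refl _)).toLinearMap := by
      refine ((Pi.basisFun R (Fin r × Fin r)).baseChange Rp).ext fun z => ?_
      rw [LinearEquiv.coe_coe, Module.Basis.equiv_apply, Equiv.refl_apply]
      simp [Φ, prodMap, bAp, hmodp, hpb, hbb', ζ, Fintype.linearCombination_apply, Pi.single_apply,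
        Algebra.TensorProduct.tmul_pow]
      erw [Algebra.TensorProduct.tmul_pow, Algebra.TensorProduct.tmul_mul_tmul]
      simp
    rw [h2]
    exact LinearEquiv.bijective _
  obtain ⟨g₂, hg₂, hg₂'⟩ := exists_bijective_map_powers p.primeCompl _ _ Φ hΦp
  -- the algebra over `R_f`
  let f : R := g₁ * d * g₂
  have hf : f ∉ p := p.primeCompl.mul_mem (p.primeCompl.mul_mem g₁.2 hdp) hg₂
  refine ⟨f, hf, ?_⟩
  let Rf := Localization.Away f
  haveI : Nontrivial Rf := by
    rw [← not_subsingleton_iff_nontrivial,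
      IsLocalization.subsingleton_iff (M := Submonoid.powers f)]
    rintro ⟨n, hn⟩
    exact hf (‹p.IsPrime›.mem_of_pow_mem n ((show f ^ n = 0 from hn) ▸ p.zero_mem))
  let Af := Rf ⊗[R] A
  letI algAf : Algebra Rf Af := Algebra.TensorProduct.leftAlgebra
  haveI : IsAzumaya Rf Af := Azu26.isAzumaya_baseChange R Rf A
  have hΦf : Function.Bijective (Φ.baseChange Rf) := by
    have h3 := map_bijective_congr (Submonoid.powers f)
      (LocalizedModule.mkLinearMap (Submonoid.powers f) (Fin r × Fin r → R))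
      (TensorProduct.mk R Rf (Fin r × Fin r → R) 1)
      (LocalizedModule.mkLinearMap (Submonoid.powers f) A) (TensorProduct.mk R Rf A 1) Φ
      (hg₂' f (Dvd.intro_left _ rfl))
    have h1 : IsLocalizedModule.map (Submonoid.powers f) (TensorProduct.mk R Rf (Fin r × Fin r → R) 1)
        (TensorProduct.mk R Rf A 1) Φ = (Φ.baseChange Rf).restrictScalars R :=
      IsLocalizedModule.ext (Submonoid.powers f) (TensorProduct.mk R Rf (Fin r × Fin r → R) 1)
        (IsLocalizedModule.map_units (TensorProduct.mk R Rf A 1))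
        (by rw [IsLocalizedModule.map_comp]; ext; simp)
    rw [h1] at h3
    exact h3
  obtain ⟨bAf, hbAf⟩ := exists_basis_prod Rf r (fun i => (ai i).1) a hΦf
  have hunit : ∀ x : R, x ∣ f → IsUnit (algebraMap R Rf x) := fun x hx =>
    isUnit_of_dvd_unit (map_dvd (algebraMap R Rf) hx)
      (IsLocalization.map_units Rf (⟨f, Submonoid.mem_powers f⟩ : Submonoid.powers f))
  let Pf := P.map (algebraMap R Rf)
  have hPf : aeval ((1 : Rf) ⊗ₜ[R] a : Af) Pf = 0 := by
    rw [aeval_map_algebraMap]
    show aeval ((Algebra.TensorProduct.includeRight : A →ₐ[R] Af) a) P = 0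
    rw [aeval_algHom_apply]
    show (1 : Rf) ⊗ₜ[R] aeval a P = 0
    obtain ⟨v, hv⟩ := (hunit g₁ (dvd_mul_of_dvd_left (dvd_mul_right _ _) _)).exists_left_inv
    rw [← hv, mul_comm, ← Algebra.smul_def, smul_tmul, show (g₁ : R) • aeval a P = 0 from hg₁, tmul_zero]
  have hdegf : Pf.natDegree = r := by rw [hm.natDegree_map (algebraMap R Rf), hdeg]
  haveI hfinf := (hm.map (algebraMap R Rf)).finite_adjoinRoot
  haveI := (hm.map (algebraMap R Rf)).free_adjoinRoot
  let E := AdjoinRoot Pf
  haveI het : Algebra.Etale Rf E := by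
    obtain ⟨di, hdi⟩ := (hunit d (dvd_mul_of_dvd_left (dvd_mul_left _ _) _)).exists_right_inv
    refine etale_adjoinRoot (hm.map _) (q.map (algebraMap R Rf) * C di) (w.map (algebraMap R Rf) * C di) ?_
    rw [derivative_map]
    have := congrArg (Polynomial.map (algebraMap R Rf)) hqw
    simp only [Polynomial.map_add, Polynomial.map_mul, map_C] at this
    rw [← mul_assoc, ← mul_assoc, ← add_mul, this, ← map_mul, hdi, map_one]
  let u : E →ₐ[Rf] Af := rootHom Pf ((1 : Rf) ⊗ₜ[R] a) hPf
  let pf : Module.Basis (Fin r) Rf E :=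
    (AdjoinRoot.powerBasis' (hm.map (algebraMap R Rf))).basis.reindex (finCongr hdegf)
  have hpf : ∀ j, u (pf j) = ((1 : Rf) ⊗ₜ[R] a) ^ (j : ℕ) := fun j => by
    rw [show pf j = AdjoinRoot.root Pf ^ (j : ℕ) by simp [pf, Pf]]
    exact rootHom_root_pow Pf _ hPf _
  have hE : Module.finrank Rf E = r := by rw [Module.finrank_eq_card_basis pf, Fintype.card_fin]
  haveI : Nontrivial E := Module.nontrivial_of_finrank_pos (R := Rf) (hE ▸ hr)
  letI : Module E Af := Module.compHom Af ((RingHom.op u.toRingHom).comp (RingEquiv.toOpposite E).toRingHom)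
  have hmod : ∀ (x : E) (y : Af), x • y = y * u x := fun _ _ => rfl
  haveI : IsScalarTower Rf E Af := ⟨fun c l y => by rw [hmod, hmod, map_smul, mul_smul_comm]⟩
  let cmb : (Fin r → E) →ₗ[E] Af := Fintype.linearCombination E fun i => (1 : Rf) ⊗ₜ[R] (ai i).1
  have hcmb : Function.Bijective (cmb.restrictScalars Rf) := by
    let b0 : Module.Basis (Fin r × Fin r) Rf (Fin r → E) :=
      (pf.smulTower (Pi.basisFun E (Fin r))).reindex (Equiv.prodComm _ _)
    have h2 : cmb.restrictScalars Rf = (b0.equiv bAf (Equiv.refl _)).toLinearMap := by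
      refine b0.ext fun z => ?_
      rw [LinearEquiv.coe_coe, Module.Basis.equiv_apply, Equiv.refl_apply, hbAf]
      simp [cmb, b0, hmod, Fintype.linearCombination_apply, Pi.single_apply, ← Pi.single_smul]
      rw [Finset.sum_eq_single z.1 (fun i _ hi => by rw [if_neg hi, map_zero, mul_zero]) (by simp), if_pos rfl,
        hpf]
      erw [Algebra.TensorProduct.tmul_pow, Algebra.TensorProduct.tmul_mul_tmul]
      simp
    rw [h2]
    exact LinearEquiv.bijective _
  let bA : Module.Basis (Fin r) E Af := Module.Basis.ofEquivFun (LinearEquiv.ofBijective cmb hcmb).symm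
  obtain ⟨φ⟩ := split_of_basis hr hE u hmod bA
  exact ⟨E, inferInstance, inferInstance, inferInstance, inferInstance, hfinf, het, inferInstance, r, hr,
    ⟨((nonempty_cancel (R := R) Rf E A).some.symm).trans φ⟩⟩

end Groth.Agent.Dix2
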